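import Mathlib
import Groth.Agent.FlatSpread.Fp

/-!
# Localizations of modules flat over a base, and flat loci seen from an intermediate algebra
-/

universe u

set_option linter.style.haveILetI false

open TensorProduct

namespace Groth.Agent.InjFibre

/-- A localization (over `S`) of an `R`-flat `S`-module is `R`-flat. -/
theorem flat_localized {R S M M' : Type u} [CommRing R] [CommRing S] [Algebra R S]
    [AddCommGroup M] [Module R M] [Module S M] [IsScalarTower R S M]
    [AddCommGroup M'] [Module R M'] [Module S M'] [IsScalarTower R S M']
    (p : Submonoid S) (f : M →ₗ[S] M') [IsLocalizedModule p f] [Module.Flat R M] : Module.Flat R M' := by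
  rw [Module.Flat.iff_lTensor_injectiveₛ]
  intro P _ _ N
  have h : Function.Injective (AlgebraTensorModule.lTensor S M N.subtype) := by
    rw [AlgebraTensorModule.coe_lTensor]
    exact Module.Flat.iff_lTensor_injectiveₛ.1 inferInstance N
  have := IsLocalizedModule.map_injective p (AlgebraTensorModule.rTensor R N f)
    (AlgebraTensorModule.rTensor R P f) _ h
  rw [IsLocalizedModule.map_lTensor] at this
  simpa [AlgebraTensorModule.coe_lTensor] using this

/-- The localization of `M` at the pullback of a submonoid is flat iff all localizations at primes
avoiding that submonoid are. -/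
theorem flat_localized_comap_iff {A B C M : Type u} [CommRing A] [CommRing B] [CommRing C]
    [Algebra A B] [Algebra B C] [Algebra A C] [IsScalarTower A B C]
    [AddCommGroup M] [Module C M] [Module B M] [Module A M]
    [IsScalarTower B C M] [IsScalarTower A C M] [IsScalarTower A B M] (G : Submonoid B) :
    Module.Flat A (LocalizedModule G M) ↔
      ∀ r : PrimeSpectrum C, (∀ s ∈ G, algebraMap B C s ∉ r.asIdeal) →
        Module.Flat A (LocalizedModule r.asIdeal.primeCompl M) := by
  let G' := Algebra.algebraMapSubmonoid C G
  let gB : M →ₗ[B] LocalizedModule G' M :=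
    (LocalizedModule.mkLinearMap G' M).restrictScalars B
  haveI : IsLocalizedModule G gB := IsLocalizedModule.restrictScalars _ _
  let e : LocalizedModule G M ≃ₗ[A] LocalizedModule G' M :=
    (IsLocalizedModule.iso G gB).restrictScalars A
  let g := LocalizedModule.mkLinearMap G' M
  refine ⟨fun h => ?_, fun h => ?_⟩
  · intro r hr
    haveI := h
    haveI : Module.Flat A (LocalizedModule G' M) := Module.Flat.of_linearEquiv e.symm
    have hle : G' ≤ r.asIdeal.primeCompl := by
      rintro _ ⟨s, hs, rfl⟩; exact hr s hs
    exact flat_localized r.asIdeal.primeCompl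
      (IsLocalizedModule.liftOfLE G' r.asIdeal.primeCompl hle g (LocalizedModule.mkLinearMap r.asIdeal.primeCompl M))
  · haveI : Module.Flat A (LocalizedModule G' M) := by
      let L := Localization G'
      refine Module.flat_of_isLocalized_maximal (R := A) L _
        (fun P _ => LocalizedModule P.primeCompl (LocalizedModule G' M))
        (fun P _ => LocalizedModule.mkLinearMap P.primeCompl _) fun P hP => ?_
      let r : PrimeSpectrum C := ⟨P.comap (algebraMap C L), inferInstance⟩
      have hr : ∀ s ∈ G, algebraMap B C s ∉ r.asIdeal := fun s hs hmem =>
        hP.ne_top (P.eq_top_of_isUnit_mem hmem (IsLocalization.map_units L (⟨_, Submonoid.mem_map_of_mem _ hs⟩ : G')))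
      haveI := h r hr
      let k : M →ₗ[C] LocalizedModule P.primeCompl (LocalizedModule G' M) :=
        (LocalizedModule.mkLinearMap P.primeCompl _).restrictScalars C ∘ₗ g
      haveI : IsLocalizedModule r.asIdeal.primeCompl k := by
        rw [isLocalizedModule_iff_isBaseChange r.asIdeal.primeCompl (Localization.AtPrime P)]
        refine IsBaseChange.comp (S := L) ?_ ?_
        · rw [← isLocalizedModule_iff_isBaseChange G']
          infer_instance
        · rw [← isLocalizedModule_iff_isBaseChange P.primeCompl]
          infer_instance
      exact Module.Flat.of_linearEquiv (((IsLocalizedModule.iso r.asIdeal.primeCompl k).restrictScalars A).symm)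
    exact Module.Flat.of_linearEquiv e

end Groth.Agent.InjFibre
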