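import Mathlib
import Groth.Agent.InjFibre.Loc
import Groth.Agent.LocFree.Props
import Groth.Agent.FibCrit.Scheme
import Groth.Prelude.Def_FlatMod2

/-!
# Flatness over a base at points of affines, and openness of the flat locus of a scheme
-/

universe u

set_option linter.style.haveILetI false
set_option backward.isDefEq.respectTransparency false

open CategoryTheory CategoryTheory.Limits AlgebraicGeometry TopologicalSpace

namespace Groth.Agent.InjFibre

theorem primeIdealOf_fromSpec {X : Scheme.{u}} {W : X.Opens} (hW : IsAffineOpen W) (q : PrimeSpectrum Γ(X, W)) :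
    ∃ h : hW.fromSpec q ∈ W, hW.primeIdealOf ⟨hW.fromSpec q, h⟩ = q := by
  have h : hW.fromSpec q ∈ W := hW.range_fromSpec.subset ⟨q, rfl⟩
  exact ⟨h, hW.fromSpec.isOpenEmbedding.injective (hW.fromSpec_primeIdealOf ⟨hW.fromSpec q, h⟩)⟩

/-- Flatness over the base at a point, read on affine charts. -/
theorem isFlatOverAt_iff {X Y : Scheme.{u}} (f : X ⟶ Y) (F : X.Modules) (hq : Coh.IsQCoh F)
    {V : Y.Opens} (hV : IsAffineOpen V) {W : X.Opens} (hW : IsAffineOpen W) (e : W ≤ f ⁻¹ᵁ V)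
    (x : X) (hx : x ∈ W) :
    letI : Algebra Γ(Y, V) Γ(X, W) := (f.appLE V W e).hom.toAlgebra
    letI : Module Γ(Y, V) Γ(F, W) := Module.compHom Γ(F, W) (f.appLE V W e).hom
    haveI : IsScalarTower Γ(Y, V) Γ(X, W) Γ(F, W) := IsScalarTower.of_algebraMap_smul fun _ _ => rfl
    FlatMod.IsFlatOverAt f F x ↔
      Module.Flat Γ(Y, V) (LocalizedModule (hW.primeIdealOf ⟨x, hx⟩).asIdeal.primeCompl Γ(F, W)) := by
  letI : Algebra Γ(Y, V) Γ(X, W) := (f.appLE V W e).hom.toAlgebra
  letI : Module Γ(Y, V) Γ(F, W) := Module.compHom Γ(F, W) (f.appLE V W e).hom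
  haveI : IsScalarTower Γ(Y, V) Γ(X, W) Γ(F, W) := IsScalarTower.of_algebraMap_smul fun _ _ => rfl
  let A := ↑(Y.presheaf.stalk (f x))
  let B := ↑(X.presheaf.stalk x)
  let N := ↑(F.presheaf.stalk x)
  letI : Algebra A B := (f.stalkMap x).hom.toAlgebra
  letI : Module A N := FlatMod.moduleStalkOver f F x
  haveI : IsScalarTower A B N := IsScalarTower.of_algebraMap_smul fun a m => rfl
  letI := TopCat.Presheaf.algebra_section_stalk Y.presheaf (⟨f x, e hx⟩ : V)
  letI := TopCat.Presheaf.algebra_section_stalk X.presheaf (⟨x, hx⟩ : W)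
  let q := (hW.primeIdealOf ⟨x, hx⟩).asIdeal
  haveI : IsLocalization.AtPrime A (hV.primeIdealOf ⟨f x, e hx⟩).asIdeal :=
    hV.isLocalization_stalk ⟨f x, e hx⟩
  letI : Module Γ(X, W) N := Module.compHom N (X.presheaf.germ W x hx).hom
  haveI : IsScalarTower Γ(X, W) B N := IsScalarTower.of_algebraMap_smul fun _ _ => rfl
  letI : Algebra Γ(Y, V) B := ((algebraMap Γ(X, W) B).comp (algebraMap Γ(Y, V) Γ(X, W))).toAlgebra
  haveI : IsScalarTower Γ(Y, V) Γ(X, W) B := IsScalarTower.of_algebraMap_eq fun _ => rfl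
  haveI : IsScalarTower Γ(Y, V) A B :=
    IsScalarTower.of_algebraMap_eq fun a => (FibCrit.germ_comm f V W e x hx a).symm
  letI : Module Γ(Y, V) N := Module.compHom N (algebraMap Γ(Y, V) B)
  haveI : IsScalarTower Γ(Y, V) B N := IsScalarTower.of_algebraMap_smul fun _ _ => rfl
  haveI : IsScalarTower Γ(Y, V) A N := IsScalarTower.of_algebraMap_smul fun a z => by
    rw [← algebraMap_smul B (algebraMap Γ(Y, V) A a) z, ← IsScalarTower.algebraMap_apply, algebraMap_smul]
  haveI : IsScalarTower Γ(Y, V) Γ(X, W) N := IsScalarTower.of_algebraMap_smul fun _ _ => rfl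
  obtain ⟨g, hg⟩ := LocFree.exists_stalkMap hW hq hx
  haveI := hg
  let eN : LocalizedModule q.primeCompl Γ(F, W) ≃ₗ[Γ(Y, V)] N :=
    (IsLocalizedModule.iso q.primeCompl g).restrictScalars Γ(Y, V)
  change Module.Flat A N ↔ _
  rw [Module.flat_iff_of_isLocalization A (hV.primeIdealOf ⟨f x, e hx⟩).asIdeal.primeCompl N]
  exact ⟨fun h => haveI := h; Module.Flat.of_linearEquiv eN,
    fun h => haveI := h; Module.Flat.of_linearEquiv eN.symm⟩

/-- The flat locus of a finitely presented module on a scheme locally of finite presentation is open. -/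
theorem isOpen_setOf_isFlatOverAt {X Y : Scheme.{u}} (f : X ⟶ Y) [LocallyOfFinitePresentation f]
    (F : X.Modules) (hq : Coh.IsQCoh F) (hF : CohB1.IsFP F) :
    IsOpen {x : X | FlatMod.IsFlatOverAt f F x} := by
  rw [isOpen_iff_forall_mem_open]
  intro x hx
  obtain ⟨V, hV, hyV, -⟩ := exists_isAffineOpen_mem_and_subset (X := Y) (x := f x) (U := ⊤) trivial
  obtain ⟨W, hW, hxW, hWV⟩ := exists_isAffineOpen_mem_and_subset (X := X) (x := x) (U := f ⁻¹ᵁ V) hyV
  letI : Algebra Γ(Y, V) Γ(X, W) := (f.appLE V W hWV).hom.toAlgebra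
  haveI : Algebra.FinitePresentation Γ(Y, V) Γ(X, W) := f.finitePresentation_appLE hV hW hWV
  letI : Module Γ(Y, V) Γ(F, W) := Module.compHom Γ(F, W) (f.appLE V W hWV).hom
  haveI : IsScalarTower Γ(Y, V) Γ(X, W) Γ(F, W) := IsScalarTower.of_algebraMap_smul fun _ _ => rfl
  haveI := LocFree.finitePresentation_sections_of_isFP hq hF hW
  have hO := FlatSpread.isOpen_flatLocus (R := Γ(Y, V)) (S := Γ(X, W)) (M := Γ(F, W))
  refine ⟨hW.fromSpec '' _, ?_, hW.fromSpec.isOpenEmbedding.isOpenMap _ hO,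
    hW.primeIdealOf ⟨x, hxW⟩, (isFlatOverAt_iff f F hq hV hW hWV x hxW).1 hx, hW.fromSpec_primeIdealOf _⟩
  rintro _ ⟨q, hqf, rfl⟩
  obtain ⟨h, hh⟩ := primeIdealOf_fromSpec hW q
  exact (isFlatOverAt_iff f F hq hV hW hWV _ h).2 (by rw [hh]; exact hqf)

end Groth.Agent.InjFibre
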