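import Groth.Agent.InjFibre.Alg
import Groth.Agent.LocalCrit.Criterion
import Mathlib.RingTheory.Regular.RegularSequence

/-!
Regular sequences on the fibre are regular, with flat quotients.
-/

set_option autoImplicit false
set_option linter.style.haveILetI false
universe u

open Pointwise RingTheory.Sequence

namespace Groth.Agent.InjFibre

/-- the induction along a sequence -/
theorem regSeq_of_step {A B : Type u} [CommRing A] [CommRing B] [Algebra A B] (J : Ideal B)
    (P : ∀ (M : Type u) [AddCommGroup M] [Module B M], Prop)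
    (hstep : ∀ (M : Type u) [AddCommGroup M] [Module B M] [Module A M] [IsScalarTower A B M], P M → Module.Flat A M →
      ∀ f : B, IsSMulRegular (M ⧸ J • (⊤ : Submodule B M)) f →
        IsSMulRegular M f ∧ P (QuotSMulTop f M) ∧ Module.Flat A (QuotSMulTop f M)) :
    ∀ (fs : List B) (M : Type u) [AddCommGroup M] [Module B M] [Module A M] [IsScalarTower A B M],
      P M → Module.Flat A M → IsWeaklyRegular (M ⧸ J • (⊤ : Submodule B M)) fs →
        IsWeaklyRegular M fs ∧
          ∀ i ≤ fs.length, Module.Flat A (M ⧸ (Ideal.ofList (fs.take i) • (⊤ : Submodule B M))) := by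
  intro fs
  induction fs with
  | nil =>
    intro M _ _ _ _ _ hfl _
    refine ⟨IsWeaklyRegular.nil B M, fun i _ => ?_⟩
    haveI := hfl
    exact Module.Flat.of_linearEquiv ((Submodule.quotEquivOfEqBot _ (by simp)).restrictScalars A)
  | cons f fs ih =>
    intro M _ _ _ _ hP hfl hreg
    obtain ⟨h1, h2⟩ := (isWeaklyRegular_cons_iff _ f fs).1 hreg
    obtain ⟨hf, hP', hfl'⟩ := hstep M hP hfl f h1
    let N : Submodule B M := f • ⊤
    let e : QuotSMulTop f (M ⧸ J • (⊤ : Submodule B M)) ≃ₗ[B]
        QuotSMulTop f M ⧸ J • (⊤ : Submodule B (QuotSMulTop f M)) :=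
      Submodule.quotEquivOfEq _ _ (by
          rw [Submodule.map_pointwise_smul, Submodule.map_top, Submodule.range_mkQ]) ≪≫ₗ
        Submodule.quotientQuotientEquivQuotientSup (J • (⊤ : Submodule B M)) N ≪≫ₗ
        Submodule.quotEquivOfEq _ _ (sup_comm _ _) ≪≫ₗ
        (Submodule.quotientQuotientEquivQuotientSup N (J • (⊤ : Submodule B M))).symm ≪≫ₗ
        Submodule.quotEquivOfEq _ _ (by rw [Submodule.map_smul'', Submodule.map_top, Submodule.range_mkQ])
    obtain ⟨h3, h4⟩ := ih (QuotSMulTop f M) hP' hfl' ((e.isWeaklyRegular_congr fs).1 h2)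
    refine ⟨(isWeaklyRegular_cons_iff _ f fs).2 ⟨hf, h3⟩, fun i hi => ?_⟩
    cases i with
    | zero =>
      haveI := hfl
      exact Module.Flat.of_linearEquiv ((Submodule.quotEquivOfEqBot _ (by simp)).restrictScalars A)
    | succ i =>
      haveI := h4 i (Nat.le_of_succ_le_succ hi)
      rw [List.take_succ_cons]
      exact Module.Flat.of_linearEquiv ((Submodule.quotOfListConsSMulTopEquivQuotSMulTopInner M f (fs.take i)).restrictScalars A)

theorem mem_smul_top_iff {A B : Type u} [CommRing A] [CommRing B] [Algebra A B] (I : Ideal A) {V : Type u}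
    [AddCommGroup V] [Module A V] [Module B V] [IsScalarTower A B V] (v : V) :
    v ∈ I.map (algebraMap A B) • (⊤ : Submodule B V) ↔ v ∈ I • (⊤ : Submodule A V) := by
  rw [show I • (⊤ : Submodule A V) = (I.map (algebraMap A B) • (⊤ : Submodule B V)).restrictScalars A by
    rw [Ideal.smul_restrictScalars, Submodule.restrictScalars_top], Submodule.restrictScalars_mem]

theorem mem_of_isSMulRegular_quot {B V : Type u} [CommRing B] [AddCommGroup V] [Module B V] {N : Submodule B V}
    {f : B} (hf : IsSMulRegular (V ⧸ N) f) {x : V} (hx : f • x ∈ N) : x ∈ N :=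
  (Submodule.Quotient.mk_eq_zero N).1 (hf (by
    change f • Submodule.Quotient.mk x = f • (0 : V ⧸ N)
    rw [smul_zero, ← Submodule.Quotient.mk_smul]
    exact (Submodule.Quotient.mk_eq_zero N).2 hx))

/-- The noetherian local case. -/
theorem regSeq_noeth {A B : Type u} [CommRing A] [CommRing B] [IsLocalRing A] [IsLocalRing B] [IsNoetherianRing B]
    [Algebra A B] [IsLocalHom (algebraMap A B)] (M : Type u) [AddCommGroup M] [Module B M] [Module A M]
    [IsScalarTower A B M] [Module.Finite B M] [Module.Flat A M] (fs : List B)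
    (hreg : IsWeaklyRegular (M ⧸ ((IsLocalRing.maximalIdeal A).map (algebraMap A B) • (⊤ : Submodule B M))) fs) :
    IsWeaklyRegular M fs ∧
      ∀ i ≤ fs.length, Module.Flat A (M ⧸ (Ideal.ofList (fs.take i) • (⊤ : Submodule B M))) := by
  refine regSeq_of_step _ (fun N _ _ => Module.Finite B N) (fun N _ _ _ _ hN hfl f hf => ?_) fs M
    inferInstance inferInstance hreg
  haveI := hN
  haveI := hfl
  let u : N →ₗ[A] N := (LinearMap.lsmul B N f).restrictScalars A
  have hu : Function.Injective (u.lTensor (IsLocalRing.ResidueField A)) :=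
    (LocalCrit.quot_lTensor_injective_iff _ u).2 fun x hx =>
      (mem_smul_top_iff _ x).1 (mem_of_isSMulRegular_quot hf ((mem_smul_top_iff _ _).2 hx))
  obtain ⟨hinj, hcok⟩ := LocalCrit.injective_and_flat_of_residue_injective (S := B) u hu
  refine ⟨fun a b h => hinj h, Module.Finite.quotient B _, ?_⟩
  haveI := hcok
  exact Module.Flat.of_linearEquiv
    ((Submodule.Quotient.restrictScalarsEquiv A (f • (⊤ : Submodule B N))).symm ≪≫ₗ Submodule.quotEquivOfEq _ (LinearMap.range u) (by
      ext x
      simp [u, Submodule.mem_smul_pointwise_iff_exists]))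

/-- The finitely presented case, at a prime. -/
theorem regSeq_atPrime {R S S' : Type u} [CommRing R] [CommRing S] [CommRing S'] [Algebra R S]
    [Algebra.FinitePresentation R S] (q : Ideal S) [q.IsPrime] [Algebra S S'] [IsLocalization.AtPrime S' q]
    [Algebra R S'] [IsScalarTower R S S'] (M : Type u) [AddCommGroup M] [Module S' M]
    [Module.FinitePresentation S' M] [Module R M] [IsScalarTower R S' M] [Module.Flat R M] (fs : List S')
    (hreg : IsWeaklyRegular
      (M ⧸ (((q.comap (algebraMap R S)).map (algebraMap R S')) • (⊤ : Submodule S' M))) fs) :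
    IsWeaklyRegular M fs ∧
      ∀ i ≤ fs.length, Module.Flat R (M ⧸ (Ideal.ofList (fs.take i) • (⊤ : Submodule S' M))) := by
  refine regSeq_of_step _ (fun N _ _ => Module.FinitePresentation S' N) (fun N _ _ _ _ hN hfl f hf => ?_) fs M
    inferInstance inferInstance hreg
  haveI := hN
  haveI := hfl
  obtain ⟨hinj, hcok⟩ := atPrime (R := R) q (LinearMap.lsmul S' N f) fun x hx => mem_of_isSMulRegular_quot hf hx
  have hr : LinearMap.range (LinearMap.lsmul S' N f) = f • (⊤ : Submodule S' N) := by
    ext x
    simp [Submodule.mem_smul_pointwise_iff_exists]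
  refine ⟨fun a b h => hinj h, ?_, ?_⟩
  · refine Module.finitePresentation_of_surjective (f • (⊤ : Submodule S' N)).mkQ (Submodule.mkQ_surjective _) ?_
    rw [Submodule.ker_mkQ, ← hr, LinearMap.range_eq_map]
    exact Module.Finite.fg_top.map _
  · haveI := hcok
    exact Module.Flat.of_linearEquiv ((Submodule.quotEquivOfEq _ _ hr.symm).restrictScalars R)

end Groth.Agent.InjFibre
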