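import Mathlib
import Groth.Agent.InjFibre.RegSeq
import Groth.Agent.InjFibre.Loc
import Groth.Agent.FlatRes.Basic

/-!
# Sequences that are regular with flat quotients at the primes, and their base change
-/

universe u

set_option linter.style.haveILetI false

open TensorProduct RingTheory.Sequence

namespace Groth.Agent.InjFibre

/-- weakly regular, ring case, elementwise -/
theorem isWeaklyRegular_ring_iff {S : Type u} [CommRing S] (fs : List S) :
    IsWeaklyRegular S fs ↔ ∀ (i : ℕ) (h : i < fs.length), ∀ x : S,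
      fs[i] * x ∈ Ideal.ofList (fs.take i) → x ∈ Ideal.ofList (fs.take i) := by
  rw [isWeaklyRegular_iff]
  refine forall_congr' fun i => forall_congr' fun h => ?_
  rw [show (Ideal.ofList (fs.take i) • ⊤ : Submodule S S) = Ideal.ofList (fs.take i) from Ideal.mul_top _]
  constructor
  · intro hr x hx
    exact mem_of_isSMulRegular_quot hr hx
  · intro hmem
    rw [isSMulRegular_iff_right_eq_zero_of_smul]
    intro y hy
    obtain ⟨y, rfl⟩ := Submodule.Quotient.mk_surjective _ y
    rw [← Submodule.Quotient.mk_smul, Submodule.Quotient.mk_eq_zero] at hy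
    exact (Submodule.Quotient.mk_eq_zero _).2 (hmem y hy)

theorem map_ofList_take {S T : Type u} [CommRing S] [CommRing T] (φ : S →+* T) (fs : List S) (i : ℕ) :
    Ideal.ofList ((fs.map φ).take i) = (Ideal.ofList (fs.take i)).map φ := by
  rw [← List.map_take, Ideal.map_ofList]

variable {R S : Type u} [CommRing R] [CommRing S] [Algebra R S]

/-- At the prime `q`: the sequence is weakly regular and its partial quotients are flat over `R`. -/
def SeqAt (R : Type u) {S : Type u} [CommRing R] [CommRing S] [Algebra R S] (fs : List S) (q : PrimeSpectrum S) :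
    Prop :=
  (∀ (i : ℕ) (h : i < fs.length), ∀ x : S,
      (∃ a ∉ q.asIdeal, a * (fs[i] * x) ∈ Ideal.ofList (fs.take i)) →
        ∃ a ∉ q.asIdeal, a * x ∈ Ideal.ofList (fs.take i)) ∧
    ∀ i ≤ fs.length, Module.Flat R (LocalizedModule q.asIdeal.primeCompl (S ⧸ Ideal.ofList (fs.take i)))

/-- `SeqAt` read in the local ring. -/
theorem seqAt_iff (fs : List S) (q : PrimeSpectrum S) (S' : Type u) [CommRing S'] [Algebra S S']
    [IsLocalization.AtPrime S' q.asIdeal] [Algebra R S'] [IsScalarTower R S S'] :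
    SeqAt R fs q ↔ IsWeaklyRegular S' (fs.map (algebraMap S S')) ∧
      ∀ i ≤ fs.length, Module.Flat R (S' ⧸ Ideal.ofList ((fs.map (algebraMap S S')).take i)) := by
  have key : ∀ (i : ℕ) (y : S), algebraMap S S' y ∈ Ideal.ofList ((fs.map (algebraMap S S')).take i) ↔
      ∃ a ∉ q.asIdeal, a * y ∈ Ideal.ofList (fs.take i) := fun i y => by
    rw [map_ofList_take, IsLocalization.algebraMap_mem_map_algebraMap_iff q.asIdeal.primeCompl]
    rfl
  refine and_congr ?_ (forall_congr' fun i => forall_congr' fun hi => ?_)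
  · rw [isWeaklyRegular_ring_iff]
    constructor
    · intro h i hi z hz
      rw [List.length_map] at hi
      obtain ⟨y, s, rfl⟩ := IsLocalization.exists_mk'_eq q.asIdeal.primeCompl z
      have hu := IsLocalization.map_units S' s
      rw [← Ideal.unit_mul_mem_iff_mem _ hu, IsLocalization.mk'_spec'] at ⊢
      rw [List.getElem_map, ← Ideal.unit_mul_mem_iff_mem _ hu, mul_left_comm, IsLocalization.mk'_spec',
        ← map_mul, key] at hz
      exact (key i y).2 (h i hi y hz)
    · intro h i hi y hy
      rw [← key] at hy ⊢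
      refine h i (by rwa [List.length_map]) _ ?_
      rwa [List.getElem_map, ← map_mul]
  · let J := Ideal.ofList (fs.take i)
    let J' := Ideal.ofList ((fs.map (algebraMap S S')).take i)
    have hJ : J ≤ J'.comap (algebraMap S S') := Ideal.map_le_iff_le_comap.1 (map_ofList_take _ fs i).ge
    let k : (S ⧸ J) →ₗ[S] S' ⧸ J' := Submodule.liftQ J
      ((Ideal.Quotient.mkₐ S J').toLinearMap ∘ₗ Algebra.linearMap S S') fun x hx =>
        Ideal.Quotient.eq_zero_iff_mem.2 (hJ hx)
    haveI : IsLocalizedModule q.asIdeal.primeCompl k := by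
      refine ⟨fun a => ?_, fun z => ?_, fun {y y'} hy => ?_⟩
      · rw [Module.End.isUnit_iff]
        have hu := (IsLocalization.map_units S' a).map (Ideal.Quotient.mk J')
        have : Function.Bijective fun z : S' ⧸ J' => Ideal.Quotient.mk J' (algebraMap S S' a) * z :=
          IsUnit.isUnit_iff_mulLeft_bijective.mp hu
        convert this using 1
        funext z
        rw [Module.algebraMap_end_apply, Algebra.smul_def]
        rfl
      · obtain ⟨z, rfl⟩ := Ideal.Quotient.mk_surjective z
        obtain ⟨⟨y, s⟩, hs⟩ := IsLocalization.surj q.asIdeal.primeCompl z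
        refine ⟨(Ideal.Quotient.mk J y, s), ?_⟩
        change (s : S) • Ideal.Quotient.mk J' z = Ideal.Quotient.mk J' (algebraMap S S' y)
        rw [← hs, Algebra.smul_def, mul_comm z, map_mul]
        rfl
      · obtain ⟨y, rfl⟩ := Ideal.Quotient.mk_surjective y
        obtain ⟨y', rfl⟩ := Ideal.Quotient.mk_surjective y'
        have h1 : algebraMap S S' y - algebraMap S S' y' ∈ J' := Ideal.Quotient.eq.1 hy
        rw [← map_sub, key] at h1
        obtain ⟨a, ha, hay⟩ := h1
        refine ⟨⟨a, ha⟩, ?_⟩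
        change Ideal.Quotient.mk J (a * y) = Ideal.Quotient.mk J (a * y')
        rwa [Ideal.Quotient.eq, ← mul_sub]
    let e := (IsLocalizedModule.iso q.asIdeal.primeCompl k).restrictScalars R
    exact ⟨fun h => haveI := h; Module.Flat.of_linearEquiv e.symm, fun h => haveI := h; Module.Flat.of_linearEquiv e⟩

/-- `SeqAt` at all primes gives a weakly regular sequence with flat partial quotients. -/
theorem isWeaklyRegular_of_seqAt (fs : List S) (h : ∀ q, SeqAt R fs q) :
    IsWeaklyRegular S fs ∧ ∀ i ≤ fs.length, Module.Flat R (S ⧸ Ideal.ofList (fs.take i)) := by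
  refine ⟨(isWeaklyRegular_ring_iff fs).2 fun i hi x hx => ?_, fun i hi => ?_⟩
  · let I : Ideal S := (Ideal.ofList (fs.take i)).colon {x}
    suffices I = ⊤ by
      have : (1 : S) ∈ I := this ▸ Submodule.mem_top
      simpa [I, Submodule.mem_colon_singleton] using this
    by_contra hI
    obtain ⟨m, hm, hIm⟩ := Ideal.exists_le_maximal I hI
    obtain ⟨a, ha, hax⟩ := (h ⟨m, hm.isPrime⟩).1 i hi x ⟨1, by simpa using hm.ne_top ∘ m.eq_top_iff_one.2, by simpa using hx⟩
    exact ha (hIm (Submodule.mem_colon_singleton.2 hax))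
  · refine Module.flat_of_isLocalized_maximal (R := R) S (S ⧸ Ideal.ofList (fs.take i))
      (fun P _ => LocalizedModule P.primeCompl (S ⧸ Ideal.ofList (fs.take i)))
      (fun P _ => LocalizedModule.mkLinearMap P.primeCompl _) fun P hP => ?_
    exact (h ⟨P, hP.isPrime⟩).2 i hi

/-- A map with flat cokernel has finitely generated kernel. -/
theorem fg_ker_of_flat {A B M N C : Type u} [CommRing A] [CommRing B] [Algebra A B] [Algebra.FinitePresentation A B]
    [AddCommGroup M] [Module B M] [Module.Finite B M] [AddCommGroup N] [Module B N] [Module.FinitePresentation B N]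
    [AddCommGroup C] [Module B C] [Module A C] [IsScalarTower A B C] [Module.FinitePresentation B C] [Module.Flat A C]
    (φ : M →ₗ[B] N) (π : N →ₗ[B] C) (hπ : Function.Surjective π) (hex : Function.Exact φ π) :
    (LinearMap.ker φ).FG := by
  obtain ⟨n, p, hp⟩ := Module.Finite.exists_fin' B N
  haveI := FlatRes.finitePresentation_ker (A := A) (π ∘ₗ p) (hπ.comp hp)
  let k : LinearMap.ker (π ∘ₗ p) →ₗ[B] LinearMap.range φ :=
    (p ∘ₗ (LinearMap.ker (π ∘ₗ p)).subtype).codRestrict _ fun z =>
      (hex (p z.1)).1 z.2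
  have hk : Function.Surjective k := by
    rintro ⟨y, hy⟩
    obtain ⟨z, rfl⟩ := hp y
    exact ⟨⟨z, (hex (p z)).2 hy⟩, rfl⟩
  haveI : Module.FinitePresentation B (LinearMap.range φ) := by
    refine Module.finitePresentation_of_surjective k hk (Submodule.fg_of_fg_map_injective
      (LinearMap.ker (π ∘ₗ p)).subtype (Submodule.injective_subtype _) ?_)
    have : (LinearMap.ker k).map (LinearMap.ker (π ∘ₗ p)).subtype = LinearMap.ker p := by
      ext z
      simp only [Submodule.mem_map, LinearMap.mem_ker, Submodule.subtype_apply]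
      refine ⟨?_, fun hz => ⟨⟨z, by simp [hz]⟩, Subtype.ext hz, rfl⟩⟩
      rintro ⟨⟨w, hw⟩, hw', rfl⟩
      exact congrArg Subtype.val hw'
    rw [this]
    exact Module.FinitePresentation.fg_ker p hp
  rw [← LinearMap.ker_rangeRestrict]
  exact Module.FinitePresentation.fg_ker φ.rangeRestrict φ.surjective_rangeRestrict

/-- The locus where a map is injective with flat cokernel is open. -/
theorem isOpen_inj_flat {R S M N : Type u} [CommRing R] [CommRing S] [Algebra R S] [Algebra.FinitePresentation R S]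
    [AddCommGroup M] [Module S M] [Module.FinitePresentation S M] [AddCommGroup N] [Module S N] [Module R N]
    [IsScalarTower R S N] [Module.FinitePresentation S N] (φ : M →ₗ[S] N) :
    IsOpen {q : PrimeSpectrum S | (∀ m, (∃ a ∉ q.asIdeal, a • φ m = 0) → ∃ a ∉ q.asIdeal, a • m = 0) ∧
      Module.Flat R (LocalizedModule q.asIdeal.primeCompl (N ⧸ LinearMap.range φ))} := by
  haveI : Module.FinitePresentation S (N ⧸ LinearMap.range φ) :=
    Module.finitePresentation_of_surjective (LinearMap.range φ).mkQ (Submodule.mkQ_surjective _)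
      (by rw [Submodule.ker_mkQ]; exact Module.Finite.iff_fg.1 inferInstance)
  rw [isOpen_iff_forall_mem_open]
  rintro q ⟨hinj, hfl⟩
  have hU := FlatSpread.isOpen_flatLocus (R := R) (S := S) (M := N ⧸ LinearMap.range φ)
  obtain ⟨_, ⟨g, rfl⟩, hqg, hgU⟩ :=
    PrimeSpectrum.isTopologicalBasis_basic_opens.exists_subset_of_mem_open
      (show q ∈ {q : PrimeSpectrum S | Module.Flat R (LocalizedModule q.asIdeal.primeCompl (N ⧸ LinearMap.range φ))}
        from hfl) hU
  let G := Submonoid.powers g
  haveI : Module.Flat R (LocalizedModule G (N ⧸ LinearMap.range φ)) :=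
    (flat_localized_comap_iff (B := S) (C := S) G).2 fun r hr =>
      hgU (hr g (Submonoid.mem_powers g))
  haveI : Algebra.FinitePresentation S (Localization G) := IsLocalization.Away.finitePresentation g
  haveI : Algebra.FinitePresentation R (Localization G) := Algebra.FinitePresentation.trans R S (Localization G)
  obtain ⟨t, ht⟩ := fg_ker_of_flat (A := R) (LocalizedModule.map G φ)
    (LocalizedModule.map G (LinearMap.range φ).mkQ)
    (IsLocalizedModule.map_surjective G (LocalizedModule.mkLinearMap G N) (LocalizedModule.mkLinearMap G _) _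
      (Submodule.mkQ_surjective _))
    (LocalizedModule.map_exact G φ (LinearMap.range φ).mkQ (LinearMap.exact_map_mkQ_range φ))
  have hkill : ∀ z ∈ t, ∃ a : S, a ∉ q.asIdeal ∧ (a • z : LocalizedModule G M) = 0 := by
    intro z hz
    have hz0 : LocalizedModule.map G φ z = 0 := LinearMap.mem_ker.1 (ht ▸ Submodule.subset_span hz)
    obtain ⟨⟨m, s⟩, rfl⟩ : ∃ p : M × G, LocalizedModule.mk p.1 p.2 = z := by
      induction z using LocalizedModule.induction_on with
      | h m s => exact ⟨⟨m, s⟩, rfl⟩
    rw [LocalizedModule.map_mk, ← LocalizedModule.zero_mk (1 : G), LocalizedModule.mk_eq] at hz0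
    obtain ⟨⟨_, n, rfl⟩, hn⟩ := hz0
    obtain ⟨a, ha, hm⟩ := hinj m ⟨g ^ n, fun h => hqg (q.2.mem_of_pow_mem n h), by
      simpa [Submonoid.smul_def] using hn⟩
    exact ⟨a, ha, by rw [LocalizedModule.smul'_mk, hm, LocalizedModule.zero_mk]⟩
  choose! a ha hat using hkill
  classical
  let h := ∏ z ∈ t, a z
  have hh : h ∉ q.asIdeal := fun hm => by
    obtain ⟨z, hz, hza⟩ := (q.2.prod_mem_iff).1 hm
    exact ha z hz hza
  have hker : ∀ z ∈ LinearMap.ker (LocalizedModule.map G φ), h • z = 0 := by
    intro z hz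
    rw [← ht] at hz
    induction hz using Submodule.span_induction with
    | mem z hz =>
      obtain ⟨c, hc⟩ := Finset.dvd_prod_of_mem a hz
      change (∏ z ∈ t, a z) • z = 0
      rw [hc, mul_comm, mul_smul, hat z hz, smul_zero]
    | zero => exact smul_zero _
    | add x y _ _ hx hy => rw [smul_add, hx, hy, add_zero]
    | smul c x _ hx => rw [smul_comm, hx, smul_zero]
  refine ⟨(PrimeSpectrum.basicOpen g : Set (PrimeSpectrum S)) ∩ PrimeSpectrum.basicOpen h, ?_,
    PrimeSpectrum.isOpen_basicOpen.inter PrimeSpectrum.isOpen_basicOpen, hqg, hh⟩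
  rintro q' ⟨hg', hh'⟩
  refine ⟨?_, hgU hg'⟩
  rintro m ⟨c, hc, hcm⟩
  have h1 : h • LocalizedModule.mk (c • m) (1 : G) = 0 :=
    hker _ (LinearMap.mem_ker.2 (by rw [LocalizedModule.map_mk, map_smul, hcm, LocalizedModule.zero_mk]))
  rw [LocalizedModule.smul'_mk, ← LocalizedModule.zero_mk (1 : G), LocalizedModule.mk_eq] at h1
  obtain ⟨⟨_, n, rfl⟩, hn⟩ := h1
  refine ⟨g ^ n * h * c, fun hm => ?_, ?_⟩
  · rcases q'.2.mem_or_mem hm with h2 | h2
    · rcases q'.2.mem_or_mem h2 with h3 | h3
      · exact hg' (q'.2.mem_of_pow_mem n h3)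
      · exact hh' h3
    · exact hc h2
  · rw [mul_smul, mul_smul]
    simpa [Submonoid.smul_def] using hn

/-- A fibrewise regular sequence at `q` satisfies `SeqAt`. -/
theorem seqAt_of_fibre [Algebra.FinitePresentation R S] (q : PrimeSpectrum S) (S' : Type u) [CommRing S']
    [Algebra S S'] [IsLocalization.AtPrime S' q.asIdeal] [Algebra R S'] [IsScalarTower R S S'] [Module.Flat R S']
    (fs : List S)
    (hreg : IsWeaklyRegular (S' ⧸ (q.asIdeal.comap (algebraMap R S)).map (algebraMap R S'))
      (fs.map (algebraMap S S'))) : SeqAt R fs q := by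
  let J := (q.asIdeal.comap (algebraMap R S)).map (algebraMap R S')
  let e : (S' ⧸ J) ≃ₗ[S'] S' ⧸ (J • (⊤ : Submodule S' S')) :=
    Submodule.quotEquivOfEq _ _ (Ideal.mul_top J).symm
  obtain ⟨h1, h2⟩ := regSeq_atPrime (R := R) q.asIdeal S' (fs.map (algebraMap S S'))
    ((e.isWeaklyRegular_congr _).1 hreg)
  refine (seqAt_iff fs q S').2 ⟨h1, fun i hi => ?_⟩
  haveI := h2 i (by rwa [List.length_map])
  exact Module.Flat.of_linearEquiv ((Submodule.quotEquivOfEq _ _ (Ideal.mul_top _).symm).restrictScalars R)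

theorem fp_quot_ofList (fs : List S) : Module.FinitePresentation S (S ⧸ Ideal.ofList fs) := by
  refine Module.finitePresentation_of_surjective (Ideal.ofList fs).mkQ (Submodule.mkQ_surjective _) ?_
  rw [Submodule.ker_mkQ]
  exact Submodule.fg_span fs.finite_toSet

/-- `SeqAt` is an open condition. -/
theorem isOpen_seqAt [Algebra.FinitePresentation R S] (fs : List S) : IsOpen {q | SeqAt R fs q} := by
  have hF : ∀ i, IsOpen {q : PrimeSpectrum S |
      Module.Flat R (LocalizedModule q.asIdeal.primeCompl (S ⧸ Ideal.ofList (fs.take i)))} := fun i =>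
    haveI := fp_quot_ofList (fs.take i)
    FlatSpread.isOpen_flatLocus
  let P : Fin fs.length → PrimeSpectrum S → Prop := fun i q =>
    (∀ x : S, (∃ a ∉ q.asIdeal, a * (fs[i.1] * x) ∈ Ideal.ofList (fs.take i)) →
        ∃ a ∉ q.asIdeal, a * x ∈ Ideal.ofList (fs.take i)) ∧
      Module.Flat R (LocalizedModule q.asIdeal.primeCompl (S ⧸ Ideal.ofList (fs.take (i.1 + 1))))
  have hP : ∀ i, IsOpen {q | P i q} := by
    intro i
    let J := Ideal.ofList (fs.take i)
    haveI := fp_quot_ofList (fs.take i.1)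
    let φ : (S ⧸ J) →ₗ[S] S ⧸ J := LinearMap.lsmul S (S ⧸ J) fs[i.1]
    have hK : Ideal.ofList (fs.take (i.1 + 1)) = J ⊔ Ideal.span {fs[i.1]} := by
      rw [List.take_succ_eq_append_getElem i.2, Ideal.ofList_append, Ideal.ofList_singleton]
    have hr : LinearMap.range φ = Submodule.map J.mkQ (Ideal.span {fs[i.1]}) := by
      ext y
      obtain ⟨y, rfl⟩ := Submodule.mkQ_surjective _ y
      simp only [LinearMap.mem_range, Submodule.mem_map, Ideal.mem_span_singleton', φ, LinearMap.lsmul_apply]
      constructor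
      · rintro ⟨z, hz⟩
        obtain ⟨z, rfl⟩ := Submodule.mkQ_surjective _ z
        exact ⟨z * fs[i.1], ⟨z, rfl⟩, by rw [← hz, ← map_smul, smul_eq_mul, mul_comm]⟩
      · rintro ⟨w, ⟨z, rfl⟩, hw⟩
        exact ⟨J.mkQ z, by rw [← hw, ← map_smul, smul_eq_mul, mul_comm]⟩
    let e : ((S ⧸ J) ⧸ LinearMap.range φ) ≃ₗ[S] S ⧸ Ideal.ofList (fs.take (i.1 + 1)) :=
      Submodule.quotEquivOfEq _ _ hr ≪≫ₗ Submodule.quotientQuotientEquivQuotientSup J _ ≪≫ₗ
        Submodule.quotEquivOfEq _ _ hK.symm
    have : {q : PrimeSpectrum S | P i q} = {q : PrimeSpectrum S |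
        (∀ m, (∃ a ∉ q.asIdeal, a • φ m = 0) → ∃ a ∉ q.asIdeal, a • m = 0) ∧
          Module.Flat R (LocalizedModule q.asIdeal.primeCompl ((S ⧸ J) ⧸ LinearMap.range φ))} := by
      ext q
      let g := LocalizedModule.mkLinearMap q.asIdeal.primeCompl (S ⧸ Ideal.ofList (fs.take (i.1 + 1))) ∘ₗ e.toLinearMap
      haveI : IsLocalizedModule q.asIdeal.primeCompl g := IsLocalizedModule.of_linearEquiv_right _ _ e
      let e' := (IsLocalizedModule.iso q.asIdeal.primeCompl g).restrictScalars R
      refine and_congr ?_ ⟨fun h => haveI := h; Module.Flat.of_linearEquiv e', fun h =>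
        haveI := h; Module.Flat.of_linearEquiv e'.symm⟩
      have h0 : ∀ (a y : S), a • J.mkQ y = 0 ↔ a * y ∈ J := fun a y => by
        rw [← map_smul, Submodule.mkQ_apply, Submodule.Quotient.mk_eq_zero]; rfl
      have h1 : ∀ (a y : S), a • φ (J.mkQ y) = 0 ↔ a * (fs[i.1] * y) ∈ J := fun a y => by
        rw [← h0]
        exact Iff.of_eq (congrArg (fun w => a • w = 0) (J.mkQ.map_smul fs[i.1] y).symm)
      constructor
      · intro h m
        obtain ⟨y, rfl⟩ := Submodule.mkQ_surjective _ m
        simp only [h0, h1]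
        exact h y
      · intro h y
        have := h (J.mkQ y)
        simp only [h0, h1] at this
        exact this
    rw [this]
    exact isOpen_inj_flat φ
  have : {q | SeqAt R fs q} = (⋂ i, {q | P i q}) ∩ ⋂ i : Fin (fs.length + 1), {q : PrimeSpectrum S |
      Module.Flat R (LocalizedModule q.asIdeal.primeCompl (S ⧸ Ideal.ofList (fs.take i)))} := by
    ext q
    simp only [Set.mem_inter_iff, Set.mem_iInter, Set.mem_setOf_eq]
    exact ⟨fun h => ⟨fun i => ⟨h.1 i i.2, h.2 _ i.2⟩, fun i => h.2 i (Nat.le_of_lt_succ i.2)⟩,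
      fun h => ⟨fun i hi => (h.1 ⟨i, hi⟩).1, fun i hi => h.2 ⟨i, Nat.lt_succ_of_le hi⟩⟩⟩
  rw [this]
  exact (isOpen_iInter_of_finite hP).inter (isOpen_iInter_of_finite fun i => hF i)

/-- Such sequences stay weakly regular, with flat quotients, after any base change. -/
theorem isWeaklyRegular_baseChange (fs : List S) (hreg : IsWeaklyRegular S fs)
    (hfl : ∀ i ≤ fs.length, Module.Flat R (S ⧸ Ideal.ofList (fs.take i))) (R' : Type u) [CommRing R'] [Algebra R R'] :
    IsWeaklyRegular (R' ⊗[R] S) (fs.map (Algebra.TensorProduct.includeRight : S →ₐ[R] R' ⊗[R] S)) := by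
  rw [isWeaklyRegular_ring_iff]
  intro i hi z hz
  rw [List.length_map] at hi
  let J := Ideal.ofList (fs.take i)
  let ι : S →ₐ[R] R' ⊗[R] S := Algebra.TensorProduct.includeRight
  let π := Ideal.Quotient.mkₐ R J
  have hker : RingHom.ker (Algebra.TensorProduct.map (AlgHom.id R R') π) = J.map ι.toRingHom := by
    rw [Algebra.TensorProduct.lTensor_ker π Ideal.Quotient.mk_surjective]
    congr 1
    exact Ideal.mk_ker
  have hJ : Ideal.ofList ((fs.map ι).take i) = J.map ι.toRingHom := map_ofList_take ι.toRingHom fs i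
  rw [List.getElem_map, hJ, ← hker, RingHom.mem_ker, map_mul] at hz
  rw [hJ, ← hker, RingHom.mem_ker]
  let m : (S ⧸ J) →ₗ[R] S ⧸ J := LinearMap.mulLeft R (π fs[i])
  have hm : Function.Injective m := by
    intro a b hab
    obtain ⟨a, rfl⟩ := Ideal.Quotient.mk_surjective a
    obtain ⟨b, rfl⟩ := Ideal.Quotient.mk_surjective b
    have h1 : fs[i] * a - fs[i] * b ∈ J := Ideal.Quotient.eq.1 hab
    rw [← mul_sub] at h1
    exact Ideal.Quotient.eq.2 ((isWeaklyRegular_ring_iff fs).1 hreg i hi _ h1)
  let J1 := Ideal.ofList (fs.take (i + 1))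
  have hle : J ≤ J1 := by
    simp only [J, J1]
    rw [List.take_succ_eq_append_getElem hi, Ideal.ofList_append]
    exact le_sup_left
  haveI : Module.Flat R (S ⧸ J1) := hfl (i + 1) hi
  let p : (S ⧸ J) →ₗ[R] S ⧸ J1 := (Ideal.Quotient.factorₐ R hle).toLinearMap
  have hp : Function.Surjective p := Ideal.Quotient.factor_surjective hle
  have hex : Function.Exact m p := by
    intro w
    obtain ⟨w, rfl⟩ := Ideal.Quotient.mk_surjective w
    change Ideal.Quotient.mk J1 w = 0 ↔ _
    rw [Ideal.Quotient.eq_zero_iff_mem]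
    constructor
    · intro hw
      simp only [J1] at hw
      rw [List.take_succ_eq_append_getElem hi, Ideal.ofList_append, Ideal.ofList_singleton] at hw
      obtain ⟨a, ha, b, hb, rfl⟩ := Submodule.mem_sup.1 hw
      obtain ⟨c, rfl⟩ := Ideal.mem_span_singleton'.1 hb
      refine ⟨Ideal.Quotient.mk J c, ?_⟩
      change Ideal.Quotient.mk J fs[i] * Ideal.Quotient.mk J c = _
      rw [← map_mul, Ideal.Quotient.eq]
      simpa [mul_comm] using neg_mem ha
    · rintro ⟨c, hc⟩
      obtain ⟨c, rfl⟩ := Ideal.Quotient.mk_surjective c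
      have h1 : fs[i] * c - w ∈ J := Ideal.Quotient.eq.1 hc
      have h2 : fs[i] * c ∈ J1 := by
        simp only [J1]
        rw [List.take_succ_eq_append_getElem hi, Ideal.ofList_append, Ideal.ofList_singleton]
        exact Submodule.mem_sup_right (Ideal.mem_span_singleton'.2 ⟨c, mul_comm _ _⟩)
      simpa using J1.sub_mem h2 (hle h1)
  have hinj := LinearMap.lTensor_injective_of_exact_of_flat p hp m hm hex R'
  have hmul : ∀ w : R' ⊗[R] (S ⧸ J), m.lTensor R' w = (1 ⊗ₜ π fs[i]) * w := by
    intro w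
    induction w with
    | zero => simp
    | tmul a b => simp [m, Algebra.TensorProduct.tmul_mul_tmul]
    | add a b ha hb => rw [map_add, ha, hb, mul_add]
  apply hinj
  rw [hmul, map_zero]
  simpa [ι] using hz

end Groth.Agent.InjFibre
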