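import Mathlib
import Groth.Agent.InjFibre.SliceAlg
import Groth.Agent.InjFibre.Stalk
import Groth.Agent.FibCrit.Tools
import Groth.Prelude.Def_Mor2

/-!
# Slices cut out by fibrewise regular sequences, and regular closed immersions
-/

universe u

set_option linter.style.haveILetI false
set_option backward.isDefEq.respectTransparency false

open CategoryTheory CategoryTheory.Limits AlgebraicGeometry TopologicalSpace TensorProduct
open RingTheory.Sequence

namespace Groth.Agent.InjFibre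

theorem isWeaklyRegular_map_ringEquiv {A B : Type u} [CommRing A] [CommRing B] (φ : A →+* B)
    (hφ : Function.Bijective φ) {rs : List A} (h : IsWeaklyRegular A rs) : IsWeaklyRegular B (rs.map φ) := by
  rw [isWeaklyRegular_ring_iff] at h ⊢
  intro i hi x hx
  rw [List.length_map] at hi
  obtain ⟨x, rfl⟩ := hφ.2 x
  rw [List.getElem_map, map_ofList_take, ← map_mul, Ideal.mem_map_iff_of_surjective _ hφ.2] at hx
  obtain ⟨y, hy, he⟩ := hx
  rw [map_ofList_take]
  exact Ideal.mem_map_of_mem _ (h i hi x (hφ.1 he ▸ hy))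

/-- A closed immersion which is locally cut out by weakly regular sequences is regular. -/
theorem isRegularClosedImmersion_of_local {Z X : Scheme.{u}} (i : Z ⟶ X) [IsClosedImmersion i]
    (H : ∀ z : Z, ∃ (A : CommRingCat.{u}) (rs : List A) (j : Spec A ⟶ X)
      (k : Spec (CommRingCat.of (↑A ⧸ Ideal.ofList rs)) ⟶ Z),
      IsOpenImmersion j ∧ i z ∈ Set.range j ∧ IsWeaklyRegular A rs ∧
        IsPullback (Spec.map (CommRingCat.ofHom (Ideal.Quotient.mk (Ideal.ofList rs)))) k j i) :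
    Mor2.IsRegularClosedImmersion i := by
  refine ⟨inferInstance, fun z => ?_⟩
  obtain ⟨A, rs, j, k, hj, ⟨p, hp⟩, hrs, hP⟩ := H z
  haveI := hj
  let W : (Spec A).affineOpens := ⟨⊤, isAffineOpen_top _⟩
  have hU : IsAffineOpen (j ''ᵁ W.1) := W.2.image_of_isOpenImmersion j
  let ψ : A ⟶ Γ(X, j ''ᵁ W.1) := (Scheme.ΓSpecIso A).inv ≫ (j.appIso W.1).inv
  haveI : IsIso ψ := by dsimp [ψ]; infer_instance
  have hψ := ConcreteCategory.bijective_of_isIso ψ
  refine ⟨j ''ᵁ W.1, hU, ⟨p, trivial, hp⟩, rs.map ψ.hom, ⟨isWeaklyRegular_map_ringEquiv ψ.hom hψ hrs, ?_⟩, ?_⟩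
  · intro h
    rw [← Ideal.map_ofList, smul_eq_mul, Ideal.mul_top] at h
    have h1 : Ideal.ofList rs = ⊤ := by
      rw [← Ideal.comap_map_of_bijective ψ.hom hψ (I := Ideal.ofList rs), ← h, Ideal.comap_top]
    obtain ⟨q, -⟩ := Scheme.Pullback.exists_preimage_pullback (f := j) (g := i) p z hp
    haveI : Subsingleton (↑A ⧸ Ideal.ofList rs) := Ideal.Quotient.subsingleton_iff.2 h1
    haveI : IsEmpty (Spec (CommRingCat.of (↑A ⧸ Ideal.ofList rs))) :=
      inferInstanceAs (IsEmpty (PrimeSpectrum (↑A ⧸ Ideal.ofList rs)))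
    exact IsEmpty.false (hP.isoPullback.inv q)
  · have h1 := Scheme.ker_ideal_of_isPullback_of_isOpenImmersion i _ k j hP.flip.flip W
    rw [Scheme.ker_of_isAffine, Scheme.IdealSheafData.ofIdealTop_ideal] at h1
    have h2 : RingHom.ker (Spec.map (CommRingCat.ofHom (Ideal.Quotient.mk (Ideal.ofList rs)))).appTop.hom =
        (Ideal.ofList rs).map (Scheme.ΓSpecIso A).inv.hom := by
      refine le_antisymm (fun x hx => ?_) (Ideal.map_le_iff_le_comap.2 fun x hx => ?_)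
      · obtain ⟨a, rfl⟩ := (ConcreteCategory.bijective_of_isIso (Scheme.ΓSpecIso A).inv).2 x
        refine Ideal.mem_map_of_mem _ (Ideal.Quotient.eq_zero_iff_mem.1 ?_)
        apply (ConcreteCategory.bijective_of_isIso (Scheme.ΓSpecIso (CommRingCat.of (↑A ⧸ Ideal.ofList rs))).inv).1
        rw [map_zero]
        have h := congr($(Scheme.ΓSpecIso_inv_naturality (CommRingCat.ofHom (Ideal.Quotient.mk (Ideal.ofList rs)))) a)
        exact h.trans hx
      · rw [Ideal.mem_comap, RingHom.mem_ker]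
        have h := congr($(Scheme.ΓSpecIso_inv_naturality (CommRingCat.ofHom (Ideal.Quotient.mk (Ideal.ofList rs)))) x)
        refine h.symm.trans ?_
        exact (congrArg (Scheme.ΓSpecIso (CommRingCat.of (↑A ⧸ Ideal.ofList rs))).inv.hom
          (Ideal.Quotient.eq_zero_iff_mem.2 hx)).trans (map_zero _)
    rw [h2] at h1
    rw [← Ideal.map_ofList]
    have hb : Function.Bijective (j.appIso W.1).inv.hom :=
      ConcreteCategory.bijective_of_isIso (j.appIso W.1).inv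
    rw [← Ideal.map_comap_of_surjective _ hb.2 (i.ker.ideal ⟨j ''ᵁ W.1, hU⟩), ← h1]
    simp [ψ, W, Ideal.map_map]

/-- `SeqAt` at the prime of a point, read in the stalk. -/
theorem seqAt_chart {X Y : Scheme.{u}} (f : X ⟶ Y) {V : Y.Opens} (_hV : IsAffineOpen V) {W : X.Opens}
    (hW : IsAffineOpen W) (e : W ≤ f ⁻¹ᵁ V) (x : X) (hx : x ∈ W) (fs : List Γ(X, W)) :
    letI : Algebra Γ(Y, V) Γ(X, W) := (f.appLE V W e).hom.toAlgebra
    letI : Algebra Γ(Y, V) ↑(X.presheaf.stalk x) :=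
      ((f.stalkMap x).hom.comp (Y.presheaf.germ V (f x) (e hx)).hom).toAlgebra
    SeqAt Γ(Y, V) fs (hW.primeIdealOf ⟨x, hx⟩) ↔
      IsWeaklyRegular (↑(X.presheaf.stalk x)) (fs.map (X.presheaf.germ W x hx).hom) ∧
        ∀ i ≤ fs.length, Module.Flat Γ(Y, V)
          (↑(X.presheaf.stalk x) ⧸ Ideal.ofList ((fs.map (X.presheaf.germ W x hx).hom).take i)) := by
  letI : Algebra Γ(Y, V) Γ(X, W) := (f.appLE V W e).hom.toAlgebra
  letI : Algebra Γ(Y, V) ↑(X.presheaf.stalk x) :=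
    ((f.stalkMap x).hom.comp (Y.presheaf.germ V (f x) (e hx)).hom).toAlgebra
  letI := TopCat.Presheaf.algebra_section_stalk X.presheaf (⟨x, hx⟩ : W)
  haveI : IsLocalization.AtPrime ↑(X.presheaf.stalk x) (hW.primeIdealOf ⟨x, hx⟩).asIdeal :=
    hW.isLocalization_stalk ⟨x, hx⟩
  haveI : IsScalarTower Γ(Y, V) Γ(X, W) ↑(X.presheaf.stalk x) :=
    IsScalarTower.of_algebraMap_eq fun a => FibCrit.germ_comm f V W e x hx a
  exact seqAt_iff fs (hW.primeIdealOf ⟨x, hx⟩) ↑(X.presheaf.stalk x)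

theorem exists_lifts {X : Scheme.{u}} (x : X) (hs : List ↑(X.presheaf.stalk x)) :
    ∃ (U : X.Opens) (hx : x ∈ U) (l : List Γ(X, U)), l.map (X.presheaf.germ U x hx) = hs := by
  induction hs with
  | nil => exact ⟨⊤, trivial, [], rfl⟩
  | cons h hs ih =>
    obtain ⟨U, hxU, l, hl⟩ := ih
    obtain ⟨V, hxV, s, hs'⟩ := X.presheaf.exists_germ_eq (x := x) h
    refine ⟨V ⊓ U, ⟨hxV, hxU⟩, X.presheaf.map (homOfLE inf_le_left).op s ::
      l.map (X.presheaf.map (homOfLE inf_le_right).op), ?_⟩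
    rw [List.map_cons, List.map_map, TopCat.Presheaf.germ_res_apply, hs', ← hl]
    congr 1
    refine List.map_congr_left fun a _ => ?_
    exact TopCat.Presheaf.germ_res_apply _ _ _ _ _

/-- The slice through a point cut out by a fibrewise regular sequence. -/
theorem exists_slice {X S : Scheme.{u}} (f : X ⟶ S) [LocallyOfFinitePresentation f] (x : X)
    (hflat : (f.stalkMap x).hom.Flat) (hs : List ↑(X.presheaf.stalk x))
    (hreg : IsWeaklyRegular (↑(X.presheaf.stalk x) ⧸ Ideal.map (f.stalkMap x).hom (IsLocalRing.maximalIdeal ↑(S.presheaf.stalk (f x))))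
      (hs.map (Ideal.Quotient.mk (Ideal.map (f.stalkMap x).hom (IsLocalRing.maximalIdeal ↑(S.presheaf.stalk (f x))))))) :
    ∃ (V : S.Opens) (_ : IsAffineOpen V) (U : X.Opens) (_ : IsAffineOpen U) (hx : x ∈ U) (e : U ≤ f ⁻¹ᵁ V)
      (l : List Γ(X, U)), l.map (X.presheaf.germ U x hx) = hs ∧ IsWeaklyRegular Γ(X, U) l ∧
        letI : Algebra Γ(S, V) Γ(X, U) := (f.appLE V U e).hom.toAlgebra
        ∀ i ≤ l.length, Module.Flat Γ(S, V) (Γ(X, U) ⧸ Ideal.ofList (l.take i)) := by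
  obtain ⟨V, hV, hyV, -⟩ := exists_isAffineOpen_mem_and_subset (X := S) (x := f x) (U := ⊤) trivial
  obtain ⟨U₀, hxU₀, l₀, hl₀⟩ := exists_lifts x hs
  obtain ⟨W, hW, hxW, hWU⟩ := exists_isAffineOpen_mem_and_subset (X := X) (x := x) (U := U₀ ⊓ f ⁻¹ᵁ V) ⟨hxU₀, hyV⟩
  have hWU₀ : W ≤ U₀ := fun y hy => (hWU hy).1
  have eW : W ≤ f ⁻¹ᵁ V := fun y hy => (hWU hy).2
  let fs : List Γ(X, W) := l₀.map (X.presheaf.map (homOfLE hWU₀).op)
  have hfs : fs.map (X.presheaf.germ W x hxW) = hs := by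
    rw [← hl₀, List.map_map]
    exact List.map_congr_left fun a _ => TopCat.Presheaf.germ_res_apply _ _ _ _ _
  let A := ↑(S.presheaf.stalk (f x))
  let B := ↑(X.presheaf.stalk x)
  letI : Algebra Γ(S, V) Γ(X, W) := (f.appLE V W eW).hom.toAlgebra
  haveI : Algebra.FinitePresentation Γ(S, V) Γ(X, W) := f.finitePresentation_appLE hV hW eW
  -- the point itself
  have hq : SeqAt Γ(S, V) fs (hW.primeIdealOf ⟨x, hxW⟩) := by
    letI : Algebra Γ(S, V) B := ((f.stalkMap x).hom.comp (S.presheaf.germ V (f x) (eW hxW)).hom).toAlgebra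
    letI : Algebra A B := (f.stalkMap x).hom.toAlgebra
    letI := TopCat.Presheaf.algebra_section_stalk S.presheaf (⟨f x, eW hxW⟩ : V)
    letI := TopCat.Presheaf.algebra_section_stalk X.presheaf (⟨x, hxW⟩ : W)
    haveI : IsLocalization.AtPrime B (hW.primeIdealOf ⟨x, hxW⟩).asIdeal := hW.isLocalization_stalk ⟨x, hxW⟩
    haveI hlA : IsLocalization.AtPrime A (hV.primeIdealOf ⟨f x, eW hxW⟩).asIdeal :=
      hV.isLocalization_stalk ⟨f x, eW hxW⟩
    haveI : IsScalarTower Γ(S, V) Γ(X, W) B :=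
      IsScalarTower.of_algebraMap_eq fun a => FibCrit.germ_comm f V W eW x hxW a
    haveI : IsScalarTower Γ(S, V) A B := IsScalarTower.of_algebraMap_eq fun a => rfl
    haveI : Module.Flat A B := hflat
    haveI : Module.Flat Γ(S, V) A := IsLocalization.flat A (hV.primeIdealOf ⟨f x, eW hxW⟩).asIdeal.primeCompl
    haveI : Module.Flat Γ(S, V) B := Module.Flat.trans Γ(S, V) A B
    refine seqAt_of_fibre (hW.primeIdealOf ⟨x, hxW⟩) B fs ?_
    have hJ : ((hW.primeIdealOf ⟨x, hxW⟩).asIdeal.comap (algebraMap Γ(S, V) Γ(X, W))).map (algebraMap Γ(S, V) B) =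
        Ideal.map (f.stalkMap x).hom (IsLocalRing.maximalIdeal A) := by
      rw [show (hW.primeIdealOf ⟨x, hxW⟩).asIdeal.comap (algebraMap Γ(S, V) Γ(X, W)) =
          (hV.primeIdealOf ⟨f x, eW hxW⟩).asIdeal from
        congrArg PrimeSpectrum.asIdeal (IsAffineOpen.comap_primeIdealOf_appLE V hV W hW eW hxW),
        IsScalarTower.algebraMap_eq Γ(S, V) A B, ← Ideal.map_map,
        IsLocalization.AtPrime.map_eq_maximalIdeal (hV.primeIdealOf ⟨f x, eW hxW⟩).asIdeal A]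
      rfl
    rw [hJ]
    have h' : IsWeaklyRegular (B ⧸ Ideal.map (f.stalkMap x).hom (IsLocalRing.maximalIdeal A)) hs := by
      rw [← isWeaklyRegular_map_algebraMap_iff (S := B ⧸ Ideal.map (f.stalkMap x).hom (IsLocalRing.maximalIdeal A))]
      exact hreg
    convert h' using 1
    exact hfs
  have hO := isOpen_seqAt (R := Γ(S, V)) fs
  have hxO : x ∈ hW.fromSpec '' {q | SeqAt Γ(S, V) fs q} :=
    ⟨hW.primeIdealOf ⟨x, hxW⟩, hq, hW.fromSpec_primeIdealOf _⟩
  obtain ⟨U, hU, hxU, hUO⟩ := exists_isAffineOpen_mem_and_subset (X := X) (x := x)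
    (U := ⟨_, hW.fromSpec.isOpenEmbedding.isOpenMap _ hO⟩) hxO
  have hUW : U ≤ W := fun y hy => by
    obtain ⟨q, -, rfl⟩ := hUO hy
    exact hW.range_fromSpec.subset ⟨q, rfl⟩
  let e : U ≤ f ⁻¹ᵁ V := hUW.trans eW
  let l : List Γ(X, U) := fs.map (X.presheaf.map (homOfLE hUW).op)
  refine ⟨V, hV, U, hU, hxU, e, l, ?_, ?_⟩
  · rw [← hfs, List.map_map]
    exact List.map_congr_left fun a _ => TopCat.Presheaf.germ_res_apply _ _ _ _ _
  letI : Algebra Γ(S, V) Γ(X, U) := (f.appLE V U e).hom.toAlgebra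
  refine isWeaklyRegular_of_seqAt l fun q => ?_
  obtain ⟨hy, hyq⟩ := primeIdealOf_fromSpec hU q
  obtain ⟨q₀, hq₀, hyq₀⟩ := hUO hy
  obtain ⟨hy₀, hyq₀'⟩ := primeIdealOf_fromSpec hW q₀
  have h1 : hW.primeIdealOf ⟨hU.fromSpec q, hUW hy⟩ = q₀ := by
    rw [← hyq₀']
    congr 1
    exact Subtype.ext hyq₀.symm
  have h2 := (seqAt_chart f hV hW eW (hU.fromSpec q) (hUW hy) fs).1 (by rw [h1]; exact hq₀)
  have hl : l.map (X.presheaf.germ U _ hy).hom = fs.map (X.presheaf.germ W _ (hUW hy)).hom := by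
    rw [List.map_map]
    exact List.map_congr_left fun a _ => TopCat.Presheaf.germ_res_apply _ _ _ _ _
  rw [← hyq, seqAt_chart f hV hU e (hU.fromSpec q) hy l]
  rw [hl, show l.length = fs.length from List.length_map _]
  exact h2

/-- A closed subscheme of an affine open cut out by a weakly regular sequence is regularly immersed. -/
theorem isRegularClosedImmersion_of_isWeaklyRegular {X : Scheme.{u}} {U : X.Opens} (hU : IsAffineOpen U)
    (l : List Γ(X, U)) (hl : IsWeaklyRegular Γ(X, U) l) :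
    Mor2.IsRegularClosedImmersion (Spec.map (CommRingCat.ofHom (Ideal.Quotient.mk (Ideal.ofList l))) ≫ hU.isoSpec.inv) := by
  haveI : IsClosedImmersion (Spec.map (CommRingCat.ofHom (Ideal.Quotient.mk (Ideal.ofList l)))) :=
    IsClosedImmersion.spec_of_surjective _ Ideal.Quotient.mk_surjective
  refine isRegularClosedImmersion_of_local _ fun z => ⟨Γ(X, U), l, hU.isoSpec.inv, 𝟙 _, inferInstance,
    ⟨_, rfl⟩, hl, ?_⟩
  exact IsPullback.of_vert_isIso ⟨by simp⟩

theorem isPullback_map_fst {Z T S S' : Scheme.{u}} (i : Z ⟶ T) (h : T ⟶ S) (g : S' ⟶ S) (c : Z ⟶ S)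
    (hc : c = i ≫ h) (w₁ : c ≫ 𝟙 S = i ≫ h) (w₂ : g ≫ 𝟙 S = 𝟙 S' ≫ g) :
    IsPullback (pullback.map c g h g i (𝟙 S') (𝟙 S) w₁ w₂) (pullback.fst c g) (pullback.fst h g) i := by
  subst hc
  refine (IsPullback.of_bot (t := IsPullback.of_hasPullback h g) ?_ (pullback.lift_fst _ _ _).symm).flip
  simpa using IsPullback.of_hasPullback (i ≫ h) g

/-- A regular slice stays regularly immersed after any base change. -/
theorem isRegularClosedImmersion_baseChange {X S : Scheme.{u}} (f : X ⟶ S) {V : S.Opens} (hV : IsAffineOpen V)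
    {U : X.Opens} (hU : IsAffineOpen U) (e : U ≤ f ⁻¹ᵁ V) (l : List Γ(X, U)) (hl : IsWeaklyRegular Γ(X, U) l)
    (hfl : letI : Algebra Γ(S, V) Γ(X, U) := (f.appLE V U e).hom.toAlgebra
      ∀ i ≤ l.length, Module.Flat Γ(S, V) (Γ(X, U) ⧸ Ideal.ofList (l.take i))) {S' : Scheme.{u}} (g : S' ⟶ S)
    (w₁ : (Spec.map (CommRingCat.ofHom (Ideal.Quotient.mk (Ideal.ofList l))) ≫ hU.isoSpec.inv ≫ U.ι ≫ f) ≫ 𝟙 S =
      (Spec.map (CommRingCat.ofHom (Ideal.Quotient.mk (Ideal.ofList l))) ≫ hU.isoSpec.inv) ≫ U.ι ≫ f)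
    (w₂ : g ≫ 𝟙 S = 𝟙 S' ≫ g) :
    Mor2.IsRegularClosedImmersion
      (pullback.map (Spec.map (CommRingCat.ofHom (Ideal.Quotient.mk (Ideal.ofList l))) ≫ hU.isoSpec.inv ≫ U.ι ≫ f) g
        (U.ι ≫ f) g (Spec.map (CommRingCat.ofHom (Ideal.Quotient.mk (Ideal.ofList l))) ≫ hU.isoSpec.inv)
        (𝟙 S') (𝟙 S) w₁ w₂) := by
  let R := Γ(S, V)
  let A := Γ(X, U)
  letI : Algebra R A := (f.appLE V U e).hom.toAlgebra
  let q := CommRingCat.ofHom (Ideal.Quotient.mk (Ideal.ofList l))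
  haveI : IsClosedImmersion (Spec.map q) := IsClosedImmersion.spec_of_surjective _ Ideal.Quotient.mk_surjective
  have hm := isPullback_map_fst (Spec.map q ≫ hU.isoSpec.inv) (U.ι ≫ f) g _ (Category.assoc _ _ _).symm w₁ w₂
  haveI : IsClosedImmersion (pullback.map (Spec.map q ≫ hU.isoSpec.inv ≫ U.ι ≫ f) g
        (U.ι ≫ f) g (Spec.map q ≫ hU.isoSpec.inv) (𝟙 S') (𝟙 S) w₁ w₂) :=
    MorphismProperty.of_isPullback hm.flip inferInstance
  refine isRegularClosedImmersion_of_local _ fun z => ?_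
  let y := pullback.map _ g (U.ι ≫ f) g (Spec.map q ≫ hU.isoSpec.inv) (𝟙 S') (𝟙 S) w₁ w₂ z
  have hy : g (pullback.snd (U.ι ≫ f) g y) ∈ V := by
    have h1 : (U.ι ≫ f) (pullback.fst (U.ι ≫ f) g y) = g (pullback.snd (U.ι ≫ f) g y) := by
      exact congr($(pullback.condition (f := U.ι ≫ f) (g := g)) y)
    rw [← h1]
    exact e (pullback.fst (U.ι ≫ f) g y).2
  obtain ⟨V', hV', hyV', hV'g⟩ := exists_isAffineOpen_mem_and_subset (X := S')
    (x := pullback.snd (U.ι ≫ f) g y) (U := g ⁻¹ᵁ V) hy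
  let R' := Γ(S', V')
  letI : Algebra R R' := (g.appLE V V' hV'g).hom.toAlgebra
  let ι : A →ₐ[R] R' ⊗[R] A := Algebra.TensorProduct.includeRight
  let sA := Spec.map (CommRingCat.ofHom (algebraMap R A))
  let sR' := Spec.map (CommRingCat.ofHom (algebraMap R R'))
  have e₁ : sA ≫ hV.fromSpec = hU.isoSpec.inv ≫ U.ι ≫ f := by
    rw [hU.isoSpec_inv_ι_assoc]
    exact IsAffineOpen.SpecMap_appLE_fromSpec f hV hU e
  have e₂ : sR' ≫ hV.fromSpec = hV'.fromSpec ≫ g := IsAffineOpen.SpecMap_appLE_fromSpec g hV hV' hV'g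
  let j : Spec (CommRingCat.of (R' ⊗[R] A)) ⟶ pullback (U.ι ≫ f) g :=
    (pullbackSpecIso R R' A).inv ≫ (pullbackSymmetry sR' sA).hom ≫
      pullback.map sA sR' (U.ι ≫ f) g hU.isoSpec.inv hV'.fromSpec hV.fromSpec e₁ e₂
  let l' : List (R' ⊗[R] A) := l.map ι
  have hjf : j ≫ pullback.fst (U.ι ≫ f) g = Spec.map (CommRingCat.ofHom ι.toRingHom) ≫ hU.isoSpec.inv := by
    simp only [j, Category.assoc, pullback.lift_fst, pullbackSymmetry_hom_comp_fst_assoc]
    rw [← Category.assoc, pullbackSpecIso_inv_snd]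
    rfl
  let J := Ideal.ofList l'
  have hJ : J = (Ideal.ofList l).map ι.toRingHom := (Ideal.map_ofList ι.toRingHom l).symm
  letI : Algebra A (R' ⊗[R] A) := ι.toRingHom.toAlgebra
  letI : Algebra (A ⧸ Ideal.ofList l) ((R' ⊗[R] A) ⧸ J) :=
    (Ideal.quotientMap J ι.toRingHom (Ideal.map_le_iff_le_comap.1 hJ.ge)).toAlgebra
  haveI : IsScalarTower A (A ⧸ Ideal.ofList l) ((R' ⊗[R] A) ⧸ J) := IsScalarTower.of_algebraMap_eq fun a => rfl
  haveI := FibCrit.isPushout_quot (A := A) (B := R' ⊗[R] A) (Ideal.ofList l) (J := J) hJ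
  have hP₀ := (isPullback_SpecMap_of_isPushout _ _ _ _
    (CommRingCat.isPushout_of_isPushout A (A ⧸ Ideal.ofList l) (R' ⊗[R] A) ((R' ⊗[R] A) ⧸ J))).flip
  have hP₁ := hP₀.paste_vert (IsPullback.of_vert_isIso (fst := Spec.map q) (snd := 𝟙 _)
    (f := hU.isoSpec.inv) (g := Spec.map q ≫ hU.isoSpec.inv) ⟨by simp⟩)
  have hP₂ : IsPullback (Spec.map (CommRingCat.ofHom (Ideal.Quotient.mk J)))
      (Spec.map (CommRingCat.ofHom (algebraMap (A ⧸ Ideal.ofList l) ((R' ⊗[R] A) ⧸ J))))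
      (Spec.map (CommRingCat.ofHom ι.toRingHom) ≫ hU.isoSpec.inv) (Spec.map q ≫ hU.isoSpec.inv) := by
    have h := hP₁
    erw [Category.comp_id] at h
    exact h
  have hj : IsOpenImmersion j := by
    dsimp only [j]
    infer_instance
  have hw : (Spec.map (CommRingCat.ofHom (Ideal.Quotient.mk J)) ≫ j) ≫ pullback.fst (U.ι ≫ f) g =
      Spec.map (CommRingCat.ofHom (algebraMap (A ⧸ Ideal.ofList l) ((R' ⊗[R] A) ⧸ J))) ≫ Spec.map q ≫ hU.isoSpec.inv := by
    rw [Category.assoc, hjf]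
    exact hP₂.w
  refine ⟨CommRingCat.of (R' ⊗[R] A), l', j, hm.lift _ _ hw, hj, ?_, isWeaklyRegular_baseChange l hl hfl R', ?_⟩
  · show y ∈ Set.range j
    have hsurj : Function.Surjective ((pullbackSpecIso R R' A).inv ≫ (pullbackSymmetry sR' sA).hom) :=
      (Scheme.homeoOfIso ((pullbackSpecIso R R' A).symm ≪≫ pullbackSymmetry sR' sA)).surjective
    have : y ∈ Set.range (pullback.map sA sR' (U.ι ≫ f) g hU.isoSpec.inv hV'.fromSpec hV.fromSpec e₁ e₂) := by
      rw [Scheme.Pullback.range_map]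
      exact ⟨(Scheme.homeoOfIso hU.isoSpec.symm).surjective _, (Set.ext_iff.1 hV'.range_fromSpec _).2 hyV'⟩
    obtain ⟨w, hw⟩ := this
    obtain ⟨v, rfl⟩ := hsurj w
    exact ⟨v, hw⟩
  · refine IsPullback.of_bot (t := hm) ?_ (IsPullback.lift_fst hm _ _ hw).symm
    rw [IsPullback.lift_snd, hjf]
    exact hP₂

theorem flat_lfp_slice {X S : Scheme.{u}} (f : X ⟶ S) [LocallyOfFinitePresentation f] {V : S.Opens}
    (hV : IsAffineOpen V) {U : X.Opens} (hU : IsAffineOpen U) (e : U ≤ f ⁻¹ᵁ V) (I : Ideal Γ(X, U)) (hI : I.FG)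
    (hfl : letI : Algebra Γ(S, V) Γ(X, U) := (f.appLE V U e).hom.toAlgebra
      Module.Flat Γ(S, V) (Γ(X, U) ⧸ I)) :
    Flat (Spec.map (CommRingCat.ofHom (Ideal.Quotient.mk I)) ≫ hU.fromSpec ≫ f) ∧
      LocallyOfFinitePresentation (Spec.map (CommRingCat.ofHom (Ideal.Quotient.mk I)) ≫ hU.fromSpec ≫ f) := by
  letI : Algebra Γ(S, V) Γ(X, U) := (f.appLE V U e).hom.toAlgebra
  haveI : Algebra.FinitePresentation Γ(S, V) Γ(X, U) := f.finitePresentation_appLE hV hU e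
  rw [← IsAffineOpen.SpecMap_appLE_fromSpec f hV hU e, ← Spec.map_comp_assoc]
  haveI : Flat (Spec.map (f.appLE V U e ≫ CommRingCat.ofHom (Ideal.Quotient.mk I))) := Flat.SpecMap_iff.2 hfl
  haveI : LocallyOfFinitePresentation (Spec.map (f.appLE V U e ≫ CommRingCat.ofHom (Ideal.Quotient.mk I))) :=
    (LocallyOfFinitePresentation.SpecMap_iff _).2
      (RingHom.FinitePresentation.comp (RingHom.FinitePresentation.of_surjective _ Ideal.Quotient.mk_surjective
        (by simpa using (Ideal.mk_ker (I := I)).symm ▸ hI)) (f.finitePresentation_appLE hV hU e))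
  exact ⟨inferInstance, inferInstance⟩

end Groth.Agent.InjFibre
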