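import Groth.Agent.InjFibre.Poly
import Groth.Agent.FibCrit.EssFP
import Mathlib

/-!
Injectivity on the fibre at a prime of a finitely presented algebra.
-/

set_option autoImplicit false
set_option linter.style.haveILetI false
universe u

open MvPolynomial TensorProduct Groth.Agent.FlatSpread

namespace Groth.Agent.InjFibre

/-- a finitely presented module over a localisation, presented over a polynomial ring -/
theorem exists_gen {k : ℕ} {R S S' M : Type u} [CommRing R] [CommRing S] [CommRing S'] [Algebra R S]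
    [Algebra.FinitePresentation R S] (π : MvPolynomial (Fin k) R →ₐ[R] S) (hπ : Function.Surjective π)
    (q : Ideal S) [q.IsPrime] [Algebra S S'] [IsLocalization.AtPrime S' q] [Algebra (MvPolynomial (Fin k) R) S']
    (hπS : ∀ x, algebraMap (MvPolynomial (Fin k) R) S' x = algebraMap S S' (π x))
    [AddCommGroup M] [Module S' M] [Module.FinitePresentation S' M] [Module (MvPolynomial (Fin k) R) M]
    [IsScalarTower (MvPolynomial (Fin k) R) S' M] :
    ∃ (m : ℕ) (WM : Submodule (MvPolynomial (Fin k) R) (Fin m → MvPolynomial (Fin k) R)), WM.FG ∧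
      ∃ f : ((Fin m → MvPolynomial (Fin k) R) ⧸ WM) →ₗ[MvPolynomial (Fin k) R] M,
        IsLocalizedModule (q.comap π.toRingHom).primeCompl f := by
  let P := MvPolynomial (Fin k) R
  obtain ⟨M₀, _, _, _, ⟨e⟩⟩ := FibCrit.exists_module_model (Q' := S') (M := M) q.primeCompl
  letI : Algebra P S := π.toRingHom.toAlgebra
  letI : Module P M₀ := Module.compHom M₀ π.toRingHom
  haveI : IsScalarTower P S M₀ := IsScalarTower.of_algebraMap_smul fun _ _ => rfl
  haveI : Module.Finite P S := Module.Finite.of_surjective (Algebra.linearMap P S) hπ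
  haveI : Module.FinitePresentation P S := Module.finitePresentation_of_surjective (Algebra.linearMap P S) hπ
    (Algebra.FinitePresentation.ker_fG_of_surjective π hπ)
  haveI : Module.FinitePresentation P M₀ := Module.FinitePresentation.trans P M₀ S
  obtain ⟨m, WM, eP, hWM⟩ := Module.FinitePresentation.exists_fin P M₀
  have hloc : ∀ (a : P) (z : M), a • z = algebraMap S S' (π a) • z := fun a z => by
    rw [← algebraMap_smul S' a z, hπS]
  let f₀ : M₀ →ₗ[P] M :=
    { toFun := fun x => e (1 ⊗ₜ x)
      map_add' := fun a b => by rw [tmul_add, map_add]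
      map_smul' := fun a x => by
        rw [RingHom.id_apply, hloc, ← map_smul e, TensorProduct.smul_tmul', smul_eq_mul, mul_one,
          show a • x = π a • x from rfl, ← TensorProduct.smul_tmul, Algebra.smul_def, mul_one] }
  refine ⟨m, WM, hWM, f₀ ∘ₗ eP.symm.toLinearMap, ⟨fun s => ?_, fun z => ?_, fun {x y} h => ?_⟩⟩
  · have hu : IsUnit (algebraMap S S' (π s.1)) := IsLocalization.map_units S' (⟨π s.1, s.2⟩ : q.primeCompl)
    rw [Module.End.isUnit_iff]
    convert hu.smul_bijective (β := M) using 1
    exact funext fun z => hloc _ z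
  · haveI := (isLocalizedModule_iff_isBaseChange q.primeCompl S' (TensorProduct.mk S S' M₀ 1)).mpr
      (TensorProduct.isBaseChange S M₀ S')
    obtain ⟨⟨x, s⟩, hxs⟩ := IsLocalizedModule.surj q.primeCompl (TensorProduct.mk S S' M₀ 1) (e.symm z)
    obtain ⟨t, ht⟩ := hπ s.1
    refine ⟨(eP x, ⟨t, show π t ∉ q from ht ▸ s.2⟩), ?_⟩
    change t • z = f₀ (eP.symm (eP x))
    rw [LinearEquiv.symm_apply_apply, hloc, ht]
    change _ = e ((TensorProduct.mk S S' M₀ 1) x)
    rw [← hxs, Submonoid.smul_def, ← algebraMap_smul S' (s : S) (e.symm z), map_smul, LinearEquiv.apply_symm_apply]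
  · haveI := (isLocalizedModule_iff_isBaseChange q.primeCompl S' (TensorProduct.mk S S' M₀ 1)).mpr
      (TensorProduct.isBaseChange S M₀ S')
    have h1 : (TensorProduct.mk S S' M₀ 1) (eP.symm x) = (TensorProduct.mk S S' M₀ 1) (eP.symm y) := e.injective h
    obtain ⟨c, hc⟩ := IsLocalizedModule.exists_of_eq (S := q.primeCompl) h1
    obtain ⟨t, ht⟩ := hπ c.1
    refine ⟨⟨t, show π t ∉ q from ht ▸ c.2⟩, eP.symm.injective ?_⟩
    change eP.symm (t • x) = eP.symm (t • y)
    rw [map_smul, map_smul]
    change π t • eP.symm x = π t • eP.symm y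
    rw [ht]
    exact hc

/-- **Injectivity on the fibre gives injectivity and flatness of the cokernel**, at a prime of a finitely presented
algebra. -/
theorem atPrime {R S S' M N : Type u} [CommRing R] [CommRing S] [CommRing S'] [Algebra R S]
    [Algebra.FinitePresentation R S] (q : Ideal S) [q.IsPrime] [Algebra S S'] [IsLocalization.AtPrime S' q]
    [Algebra R S'] [IsScalarTower R S S'] [AddCommGroup M] [Module S' M] [Module.FinitePresentation S' M]
    [AddCommGroup N] [Module S' N] [Module.FinitePresentation S' N] [Module R N] [IsScalarTower R S' N]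
    [Module.Flat R N] (u : M →ₗ[S'] N)
    (H : ∀ x, u x ∈ ((q.comap (algebraMap R S)).map (algebraMap R S')) • (⊤ : Submodule S' N) →
      x ∈ ((q.comap (algebraMap R S)).map (algebraMap R S')) • (⊤ : Submodule S' M)) :
    Function.Injective u ∧ Module.Flat R (N ⧸ LinearMap.range u) := by
  obtain ⟨k, π, hπ, -⟩ := Algebra.FinitePresentation.out (R := R) (A := S)
  let P := MvPolynomial (Fin k) R
  letI : Algebra P S' := ((algebraMap S S').comp π.toRingHom).toAlgebra
  letI : Module P M := Module.compHom M (algebraMap P S')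
  haveI : IsScalarTower P S' M := IsScalarTower.of_algebraMap_smul fun _ _ => rfl
  letI : Module P N := Module.compHom N (algebraMap P S')
  haveI : IsScalarTower P S' N := IsScalarTower.of_algebraMap_smul fun _ _ => rfl
  letI : Module R M := Module.compHom M (algebraMap R S')
  haveI : IsScalarTower R S' M := IsScalarTower.of_algebraMap_smul fun _ _ => rfl
  haveI : IsScalarTower R P S' := IsScalarTower.of_algebraMap_eq fun r => by
    change algebraMap R S' r = algebraMap S S' (π (algebraMap R P r))
    rw [π.commutes, ← IsScalarTower.algebraMap_apply]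
  haveI : IsScalarTower R P M := IsScalarTower.of_algebraMap_smul fun r x => by
    rw [← algebraMap_smul S' (algebraMap R P r) x, ← IsScalarTower.algebraMap_apply, algebraMap_smul]
  haveI : IsScalarTower R P N := IsScalarTower.of_algebraMap_smul fun r x => by
    rw [← algebraMap_smul S' (algebraMap R P r) x, ← IsScalarTower.algebraMap_apply, algebraMap_smul]
  obtain ⟨m, WM, hWM, fM, hfM⟩ := exists_gen (S' := S') (M := M) π hπ q (fun _ => rfl)
  obtain ⟨n, W, hW, fN, hfN⟩ := exists_gen (S' := S') (M := N) π hπ q (fun _ => rfl)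
  let qh := q.comap π.toRingHom
  haveI : qh.IsPrime := Ideal.IsPrime.comap _
  haveI := hfM
  haveI := hfN
  haveI : Module.FinitePresentation P ((Fin m → P) ⧸ WM) :=
    Module.finitePresentation_of_surjective WM.mkQ WM.mkQ_surjective (by rw [Submodule.ker_mkQ]; exact hWM)
  obtain ⟨h, s, hs⟩ := Module.FinitePresentation.exists_lift_of_isLocalizedModule qh.primeCompl fN
    ((u.restrictScalars P) ∘ₗ fM)
  choose col hcol using fun i => W.mkQ_surjective (h (WM.mkQ (Pi.single i 1)))
  let v : (Fin m → P) →ₗ[P] (Fin n → P) := Fintype.linearCombination P col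
  have hvh : ∀ x, W.mkQ (v x) = h (WM.mkQ x) := by
    have : W.mkQ ∘ₗ v = h ∘ₗ WM.mkQ := LinearMap.pi_ext' fun i => LinearMap.ext_ring (by
      simp [v, hcol, Fintype.linearCombination_apply_single])
    exact fun x => LinearMap.congr_fun this x
  have hv : WM ≤ W.comap v := fun x hx => by
    rw [Submodule.mem_comap, ← Submodule.Quotient.mk_eq_zero, ← Submodule.mkQ_apply, hvh,
      show WM.mkQ x = 0 from (Submodule.Quotient.mk_eq_zero _).2 hx, map_zero]
  have key : ∀ x, fN (W.mkQ (v x)) = (s : P) • u (fM (WM.mkQ x)) := fun x => by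
    rw [hvh]
    exact LinearMap.congr_fun hs (WM.mkQ x)
  have hunit : ∀ (c : qh.primeCompl) {X : Type u} [AddCommGroup X] [Module S' X] [Module P X] [IsScalarTower P S' X],
      Function.Bijective fun z : X => (c : P) • z := by
    intro c X _ _ _ _
    have hu : IsUnit (algebraMap P S' c) := IsLocalization.map_units S' (⟨π c.1, c.2⟩ : q.primeCompl)
    convert hu.smul_bijective (β := X) using 1
    exact funext fun z => (algebraMap_smul S' _ z).symm
  let p := qh.comap (C : R →+* P)
  have hp : p = q.comap (algebraMap R S) := by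
    simp only [p, qh, Ideal.comap_comap]
    congr 1
    exact RingHom.ext fun r => π.commutes r
  let J := p.map (algebraMap R S')
  have hJ : ∀ (X : Type u) [AddCommGroup X] [Module R X] [Module S' X] [IsScalarTower R S' X] (x : X),
      x ∈ J • (⊤ : Submodule S' X) ↔ x ∈ p • (⊤ : Submodule R X) := by
    intro X _ _ _ _ x
    have : p • (⊤ : Submodule R X) = (J • (⊤ : Submodule S' X)).restrictScalars R := by
      rw [Ideal.smul_restrictScalars, Submodule.restrictScalars_top]
    rw [this, Submodule.restrictScalars_mem]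
  have hcf : ∀ {r : ℕ} {X : Type u} [AddCommGroup X] [Module R X] [Module P X] [IsScalarTower R P X]
      (g : (Fin r → P) →ₗ[P] X), ∀ y ∈ cf p, g y ∈ p • (⊤ : Submodule R X) := by
    intro r X _ _ _ _ g y hy
    rw [cf_eq] at hy
    refine Submodule.smul_induction_on hy (fun a ha z _ => ?_) fun a b ha hb => by rw [map_add]; exact add_mem ha hb
    rw [map_smul]
    exact map_C_smul_mem ha _
  have hfl : Fl (⊥ : Ideal R) qh.primeCompl W := by
    haveI : Module.Flat R (LocalizedModule qh.primeCompl ((Fin n → P) ⧸ W)) :=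
      Module.Flat.of_linearEquiv ((IsLocalizedModule.iso qh.primeCompl fN).restrictScalars R)
    exact fl_of_flat _ _
  have H' : ∀ x, v x ∈ W ⊔ cf p → ∃ c, c ∉ qh ∧ c • x ∈ WM ⊔ cf p := by
    intro x hx
    obtain ⟨a, ha, b, hb, e⟩ := Submodule.mem_sup.1 hx
    have h1 : (s : P) • u (fM (WM.mkQ x)) ∈ p • (⊤ : Submodule R N) := by
      rw [← key, ← e, map_add, show W.mkQ a = 0 from (Submodule.Quotient.mk_eq_zero _).2 ha, zero_add]
      exact hcf (fN ∘ₗ W.mkQ) b hb
    rw [← hJ] at h1
    have hu : IsUnit (algebraMap P S' s) := IsLocalization.map_units S' (⟨π s.1, s.2⟩ : q.primeCompl)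
    rw [← algebraMap_smul S' (s : P) (u _), Submodule.smul_mem_iff_of_isUnit _ hu] at h1
    have h2 := H _ (by rw [← hp]; exact h1)
    rw [← hp, hJ] at h2
    obtain ⟨t, y, hy, hty⟩ : ∃ (t : qh.primeCompl) (y : Fin m → P), y ∈ cf p ∧ (t : P) • fM (WM.mkQ x) = fM (WM.mkQ y) := by
      generalize fM (WM.mkQ x) = z at h2 ⊢
      refine Submodule.smul_induction_on h2 (fun r hr z _ => ?_) fun a b ha hb => ?_
      · obtain ⟨⟨y, t⟩, hyt⟩ := IsLocalizedModule.surj qh.primeCompl fM z
        obtain ⟨y, rfl⟩ := WM.mkQ_surjective y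
        refine ⟨t, (C r : P) • y, C_smul_mem_cf hr y, ?_⟩
        rw [map_smul, map_smul, ← hyt, ← MvPolynomial.algebraMap_eq, algebraMap_smul, Submonoid.smul_def, smul_comm]
      · obtain ⟨t₁, y₁, hy₁, e₁⟩ := ha
        obtain ⟨t₂, y₂, hy₂, e₂⟩ := hb
        refine ⟨t₁ * t₂, (t₂ : P) • y₁ + (t₁ : P) • y₂, add_mem (Submodule.smul_mem _ _ hy₁) (Submodule.smul_mem _ _ hy₂), ?_⟩
        rw [map_add, map_add, map_smul, map_smul, map_smul, map_smul, ← e₁, ← e₂, smul_smul, smul_smul, smul_add,
          Submonoid.coe_mul, mul_comm (t₂ : P)]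
    rw [← map_smul, ← map_smul] at hty
    obtain ⟨c, hc⟩ := IsLocalizedModule.exists_of_eq (S := qh.primeCompl) hty
    refine ⟨(c : P) * t, (c * t).2, ?_⟩
    simp only [Submonoid.smul_def, ← map_smul] at hc
    have h3 := (Submodule.Quotient.eq WM).1 hc
    rw [← smul_smul, ← sub_add_cancel ((c : P) • (t : P) • x) ((c : P) • y)]
    exact Submodule.add_mem _ (Submodule.mem_sup_left h3) (Submodule.mem_sup_right (Submodule.smul_mem _ _ hy))
  obtain ⟨hinj, hflC⟩ := poly qh WM hWM W hW v hv hfl H'
  refine ⟨(injective_iff_map_eq_zero u).2 fun z hz => ?_, ?_⟩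
  · obtain ⟨⟨y, t⟩, hyt⟩ := IsLocalizedModule.surj qh.primeCompl fM z
    obtain ⟨x, rfl⟩ := WM.mkQ_surjective y
    have h1 : fN (W.mkQ (v x)) = fN 0 := by
      rw [key, ← hyt, Submonoid.smul_def, ← algebraMap_smul S' (t : P) z, map_smul, hz, smul_zero, smul_zero, map_zero]
    obtain ⟨c, hc⟩ := IsLocalizedModule.exists_of_eq (S := qh.primeCompl) h1
    simp only [Submonoid.smul_def, smul_zero, ← map_smul] at hc
    obtain ⟨d, hd, hdx⟩ := hinj _ ((Submodule.Quotient.mk_eq_zero W).1 hc)
    refine (hunit (⟨d, hd⟩ * c * t) (X := M)).1 ?_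
    change (d * (c : P) * (t : P)) • z = (d * (c : P) * (t : P)) • (0 : M)
    rw [smul_zero, mul_smul, mul_smul, ← Submonoid.smul_def t, hyt, ← map_smul, ← map_smul, ← map_smul, ← map_smul,
      show WM.mkQ (d • (c : P) • x) = 0 from (Submodule.Quotient.mk_eq_zero _).2 hdx, map_zero]
  · let K := LinearMap.range u
    let g : ((Fin n → P) ⧸ (W ⊔ LinearMap.range v)) →ₗ[P] N ⧸ K :=
      (W ⊔ LinearMap.range v).liftQ ((K.mkQ.restrictScalars P) ∘ₗ fN ∘ₗ W.mkQ) (sup_le
        (fun a ha => by
          change K.mkQ (fN (W.mkQ a)) = 0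
          rw [show W.mkQ a = 0 from (Submodule.Quotient.mk_eq_zero _).2 ha, map_zero, map_zero])
        (by
          rintro _ ⟨y, rfl⟩
          change K.mkQ (fN (W.mkQ (v y))) = 0
          rw [key]
          refine (Submodule.Quotient.mk_eq_zero K).2 ?_
          rw [← algebraMap_smul S']
          exact Submodule.smul_mem _ _ ⟨_, rfl⟩))
    haveI : IsLocalizedModule qh.primeCompl g := by
      refine ⟨fun c => (Module.End.isUnit_iff _).2 (hunit c), fun z => ?_, fun {a b} hab => ?_⟩
      · obtain ⟨z, rfl⟩ := K.mkQ_surjective z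
        obtain ⟨⟨y, t⟩, hyt⟩ := IsLocalizedModule.surj qh.primeCompl fN z
        obtain ⟨y, rfl⟩ := W.mkQ_surjective y
        exact ⟨(Submodule.Quotient.mk y, t), congrArg K.mkQ hyt⟩
      · obtain ⟨a, rfl⟩ := Submodule.mkQ_surjective _ a
        obtain ⟨b, rfl⟩ := Submodule.mkQ_surjective _ b
        have hd : fN (W.mkQ a) - fN (W.mkQ b) ∈ K := (Submodule.Quotient.eq K).1 hab
        obtain ⟨z, hz⟩ := hd
        obtain ⟨⟨y, t⟩, hyt⟩ := IsLocalizedModule.surj qh.primeCompl fM z
        obtain ⟨x, rfl⟩ := WM.mkQ_surjective y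
        have h1 : fN (W.mkQ (((s : P) * t) • (a - b))) = fN (W.mkQ (v x)) := by
          rw [key, ← hyt, Submonoid.smul_def, ← algebraMap_smul S' (t : P) z, map_smul u, hz, algebraMap_smul,
            smul_smul, map_smul, map_smul, map_sub, map_sub]
        obtain ⟨c, hc⟩ := IsLocalizedModule.exists_of_eq (S := qh.primeCompl) h1
        simp only [Submonoid.smul_def, ← map_smul] at hc
        refine ⟨c * (s * t), (Submodule.Quotient.eq _).2 ?_⟩
        have h3 := (Submodule.Quotient.eq W).1 hc
        rw [map_smul v] at h3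
        simp only []
        rw [← smul_sub, Submonoid.coe_mul, Submonoid.coe_mul, mul_smul,
          ← sub_add_cancel ((c : P) • ((s : P) * (t : P)) • (a - b)) ((c : P) • v x)]
        exact Submodule.add_mem _ (Submodule.mem_sup_left h3)
          (Submodule.mem_sup_right (Submodule.smul_mem _ _ ⟨_, rfl⟩))
    haveI := flat_of_fl _ _ hflC
    exact Module.Flat.of_linearEquiv ((IsLocalizedModule.iso qh.primeCompl g).restrictScalars R).symm

end Groth.Agent.InjFibre
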