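import Groth.Agent.FlatSpread.Model
import Mathlib.LinearAlgebra.Dimension.Free
import Mathlib.RingTheory.LocalRing.ResidueField.Ideal

/-!
Descent of membership modulo a prime along the extension of residue fields.
-/

set_option autoImplicit false
set_option linter.style.haveILetI false
universe u

open MvPolynomial Groth.Agent.FlatSpread

namespace Groth.Agent.InjFibre

/-- clearing denominators of a polynomial over the residue field -/
theorem exists_red {σ : Type} {R : Type u} [CommRing R] (p : Ideal R) [p.IsPrime]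
    (y : MvPolynomial σ p.ResidueField) :
    ∃ c : R, c ∉ p ∧ ∃ z : MvPolynomial σ R,
      C (algebraMap R p.ResidueField c) * y = MvPolynomial.map (algebraMap R p.ResidueField) z := by
  classical
  have h : ∀ k : p.ResidueField, ∃ c : R, c ∉ p ∧ ∃ a, algebraMap R p.ResidueField c * k = algebraMap R p.ResidueField a := by
    intro k
    obtain ⟨a, b, hb, rfl⟩ := IsFractionRing.div_surjective (A := R ⧸ p) k
    obtain ⟨a, rfl⟩ := Ideal.Quotient.mk_surjective a
    obtain ⟨b, rfl⟩ := Ideal.Quotient.mk_surjective b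
    refine ⟨b, fun h => nonZeroDivisors.ne_zero hb (Ideal.Quotient.eq_zero_iff_mem.2 h), a, ?_⟩
    rw [IsScalarTower.algebraMap_apply R (R ⧸ p) p.ResidueField, IsScalarTower.algebraMap_apply R (R ⧸ p) p.ResidueField,
      Ideal.Quotient.algebraMap_eq]
    exact mul_div_cancel₀ _ (IsFractionRing.to_map_ne_zero_of_mem_nonZeroDivisors hb)
  induction y using MvPolynomial.induction_on' with
  | monomial α k =>
    obtain ⟨c, hc, a, ha⟩ := h k
    exact ⟨c, hc, monomial α a, by rw [map_monomial, C_mul_monomial, ha]⟩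
  | add y₁ y₂ h₁ h₂ =>
    obtain ⟨c₁, hc₁, z₁, hz₁⟩ := h₁
    obtain ⟨c₂, hc₂, z₂, hz₂⟩ := h₂
    refine ⟨c₁ * c₂, fun h => (Ideal.IsPrime.mem_or_mem inferInstance h).elim hc₁ hc₂, C c₂ * z₁ + C c₁ * z₂, ?_⟩
    simp only [map_add, map_mul, map_C, ← hz₁, ← hz₂]
    ring

theorem map_eq_zero_iff_mem {σ : Type} {R : Type u} [CommRing R] (p : Ideal R) [p.IsPrime] (z : MvPolynomial σ R) :
    MvPolynomial.map (algebraMap R p.ResidueField) z = 0 ↔ z ∈ p.map (C : R →+* MvPolynomial σ R) := by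
  rw [MvPolynomial.mem_map_C_iff, MvPolynomial.ext_iff]
  simp [coeff_map]

variable {σ : Type} {ι : Type} [Finite ι]

omit [Finite ι] in
lemma kL_mem_zero_iff {R : Type u} [CommRing R] (p : Ideal R) [p.IsPrime] (x : ι → MvPolynomial σ R) :
    kL (algebraMap R p.ResidueField) x = 0 ↔ x ∈ (cf p : Submodule (MvPolynomial σ R) (ι → MvPolynomial σ R)) := by
  rw [mem_cf, funext_iff]
  refine forall_congr' fun i => ?_
  change MvPolynomial.map _ (x i) = 0 ↔ _
  rw [map_eq_zero_iff_mem, MvPolynomial.mem_map_C_iff]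

omit [Finite ι] in
/-- If `s • x ∈ ext W₀ ⊔ cf p` with `s` outside a prime `q` over `p`, the same holds before base change. -/
theorem descent {A₀ A : Type u} [CommRing A₀] [CommRing A] (φ : A₀ →+* A) (p : Ideal A) [p.IsPrime]
    (q : Ideal (MvPolynomial σ A)) [q.IsPrime] (hp : q.comap (C : A →+* MvPolynomial σ A) = p)
    (W₀ : Submodule (MvPolynomial σ A₀) (ι → MvPolynomial σ A₀)) (x : ι → MvPolynomial σ A₀) (s : MvPolynomial σ A)
    (hs : s ∉ q) (h : s • kL φ x ∈ ext φ W₀ ⊔ cf p) :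
    ∃ s₀, s₀ ∉ q.comap (MvPolynomial.map φ) ∧ s₀ • x ∈ W₀ ⊔ cf (p.comap φ) := by
  classical
  let p₀ := p.comap φ
  let k₀ := p₀.ResidueField
  let k := p.ResidueField
  let θ : k₀ →+* k := Ideal.ResidueField.map p₀ p φ rfl
  letI : Algebra k₀ k := θ.toAlgebra
  let r₀ : A₀ →+* k₀ := algebraMap A₀ k₀
  let r : A →+* k := algebraMap A k
  have hsq : θ.comp r₀ = r.comp φ := RingHom.ext fun a => Ideal.ResidueField.map_algebraMap p₀ p φ rfl a
  let B := Module.Free.chooseBasis k₀ k
  let Λ : Module.Free.ChooseBasisIndex k₀ k → MvPolynomial σ k → MvPolynomial σ k₀ := fun i y =>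
    ∑ α ∈ y.support, monomial α (B.coord i (y.coeff α))
  have hΛc : ∀ i y α, (Λ i y).coeff α = B.coord i (y.coeff α) := by
    intro i y α
    simp only [Λ, coeff_sum, coeff_monomial]
    rw [Finset.sum_ite_eq']
    split_ifs with hα
    · rfl
    · rw [notMem_support_iff.1 hα, map_zero]
  have hΛm : ∀ i a y, Λ i (MvPolynomial.map θ a * y) = a * Λ i y := by
    intro i a y
    ext α
    rw [hΛc, coeff_mul, coeff_mul, map_sum]
    refine Finset.sum_congr rfl fun β _ => ?_
    rw [coeff_map, hΛc, show θ (a.coeff β.1) * y.coeff β.2 = a.coeff β.1 • y.coeff β.2 from rfl, map_smul, smul_eq_mul]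
  have hΛa : ∀ i y z, Λ i (y + z) = Λ i y + Λ i z := fun i y z => by ext α; simp [hΛc]
  have hΛ0 : ∀ i, Λ i 0 = 0 := fun i => by ext α; simp [hΛc]
  -- reductions
  let s' := MvPolynomial.map r s
  let x' : ι → MvPolynomial σ k₀ := kL r₀ x
  have hx' : ∀ j, MvPolynomial.map r (MvPolynomial.map φ (x j)) = MvPolynomial.map θ (x' j) := fun j => by
    change _ = MvPolynomial.map θ (MvPolynomial.map r₀ (x j))
    rw [MvPolynomial.map_map, MvPolynomial.map_map, hsq]
  obtain ⟨w, hw, c, hc, hwc⟩ := Submodule.mem_sup.1 h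
  have hc' : kL r c = 0 := (kL_mem_zero_iff p c).2 hc
  let W' : Submodule (MvPolynomial σ k₀) (ι → MvPolynomial σ k₀) := ext r₀ W₀
  have hW' : ∀ i, (fun j => Λ i (kL r w j)) ∈ W' := by
    intro i
    clear hwc
    have gen : ∀ (a : MvPolynomial σ k) w₀, w₀ ∈ W₀ →
        (fun j => Λ i (a * MvPolynomial.map r (MvPolynomial.map φ (w₀ j)))) ∈ W' := by
      intro a w₀ hw₀
      have : (fun j => Λ i (a * MvPolynomial.map r (MvPolynomial.map φ (w₀ j)))) = Λ i a • kL r₀ w₀ := by
        funext j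
        rw [MvPolynomial.map_map, ← hsq, ← MvPolynomial.map_map, mul_comm, hΛm, mul_comm]
        rfl
      rw [this]
      exact W'.smul_mem _ (kL_mem_ext r₀ hw₀)
    suffices ∀ a : MvPolynomial σ k, (fun j => Λ i (a * kL r w j)) ∈ W' by
      simpa using this 1
    induction hw using Submodule.span_induction with
    | mem w hw =>
      obtain ⟨w₀, hw₀, rfl⟩ := hw
      exact fun a => gen a w₀ hw₀
    | zero =>
      intro a
      simp only [map_zero, Pi.zero_apply, mul_zero, hΛ0]
      exact W'.zero_mem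
    | add y z _ _ hy hz =>
      intro a
      simp only [map_add, Pi.add_apply, mul_add, hΛa]
      exact W'.add_mem (hy a) (hz a)
    | smul e y _ hy =>
      intro a
      have h2 := hy (a * MvPolynomial.map r e)
      simp only [LinearMap.map_smulₛₗ, Pi.smul_apply, smul_eq_mul]
      simpa only [mul_assoc] using h2
  have hx'' : ∀ i, Λ i s' • x' ∈ W' := by
    intro i
    have e1 : (fun j => Λ i (kL r w j)) = Λ i s' • x' := by
      funext j
      have e2 : kL r w j = MvPolynomial.map θ (x' j) * s' := by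
        have := congrArg (fun v => kL r v j) hwc
        simp only [map_add, hc', add_zero, LinearMap.map_smulₛₗ] at this
        rw [this, ← hx']
        exact mul_comm _ _
      rw [e2, hΛm, Pi.smul_apply, smul_eq_mul, mul_comm]
    rw [← e1]
    exact hW' i
  -- lift a relation back to `A₀`
  have hback : ∀ y ∈ W', ∃ c : A₀, c ∉ p₀ ∧ ∃ w₁ ∈ W₀,
      kL r₀ w₁ = (C (r₀ c) : MvPolynomial σ k₀) • y := by
    intro y hy
    induction hy using Submodule.span_induction with
    | mem y hy =>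
      obtain ⟨w₀, hw₀, rfl⟩ := hy
      exact ⟨1, fun h => (Ideal.IsPrime.ne_top inferInstance) ((Ideal.eq_top_iff_one _).2 h), w₀, hw₀, by simp⟩
    | zero => exact ⟨1, fun h => (Ideal.IsPrime.ne_top inferInstance) ((Ideal.eq_top_iff_one _).2 h), 0, W₀.zero_mem, by simp⟩
    | add y z _ _ hy hz =>
      obtain ⟨c₁, hc₁, w₁, hw₁, e₁⟩ := hy
      obtain ⟨c₂, hc₂, w₂, hw₂, e₂⟩ := hz
      refine ⟨c₁ * c₂, fun h => (Ideal.IsPrime.mem_or_mem inferInstance h).elim hc₁ hc₂,
        (C c₂ : MvPolynomial σ A₀) • w₁ + (C c₁ : MvPolynomial σ A₀) • w₂,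
        W₀.add_mem (W₀.smul_mem _ hw₁) (W₀.smul_mem _ hw₂), ?_⟩
      rw [map_add, kL_C_smul, kL_C_smul, e₁, e₂, smul_smul, smul_smul, map_mul, map_mul, mul_comm (C (r₀ c₂)), smul_add]
    | smul e y _ hy =>
      obtain ⟨c₁, hc₁, w₁, hw₁, e₁⟩ := hy
      obtain ⟨c₂, hc₂, z, hz⟩ := exists_red p₀ e
      refine ⟨c₁ * c₂, fun h => (Ideal.IsPrime.mem_or_mem inferInstance h).elim hc₁ hc₂, z • w₁, W₀.smul_mem _ hw₁, ?_⟩
      rw [LinearMap.map_smulₛₗ, e₁, ← hz, smul_smul, smul_smul, map_mul, map_mul]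
      congr 1
      ring
  -- some coordinate of `s` is outside the prime
  have hsum : s' = ∑ i ∈ (s'.support.biUnion fun α => (B.repr (s'.coeff α)).support),
      MvPolynomial.map θ (Λ i s') * C (B i) := by
    ext α
    rw [coeff_sum]
    simp only [mul_comm _ (C (B _)), coeff_C_mul, coeff_map, hΛc]
    by_cases hα : α ∈ s'.support
    · refine (B.linearCombination_repr (s'.coeff α)).symm.trans ?_
      rw [Finsupp.linearCombination_apply]
      refine (Finsupp.sum_of_support_subset _ (Finset.subset_biUnion_of_mem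
        (fun α => (B.repr (s'.coeff α)).support) hα) (fun i c => c • B i) (fun i _ => zero_smul k₀ (B i))).trans ?_
      exact Finset.sum_congr rfl fun i _ => (Algebra.smul_def _ _).trans (mul_comm _ _)
    · simp [notMem_support_iff.1 hα]
  choose cΛ hcΛ zΛ hzΛ using fun i => exists_red p₀ (Λ i s')
  obtain ⟨i, hi⟩ : ∃ i, zΛ i ∉ q.comap (MvPolynomial.map φ) := by
    by_contra hall
    simp only [not_exists, not_not] at hall
    let I : Ideal (MvPolynomial σ k) := q.map (MvPolynomial.map r)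
    have hu : ∀ i, MvPolynomial.map θ (Λ i s') ∈ I := by
      intro i
      have hne : r (φ (cΛ i)) ≠ 0 := fun h0 => hcΛ i (Ideal.algebraMap_residueField_eq_zero.1 h0 : φ (cΛ i) ∈ p)
      have h1 : C (r (φ (cΛ i))) * MvPolynomial.map θ (Λ i s') ∈ I := by
        have := congrArg (MvPolynomial.map θ) (hzΛ i)
        rw [map_mul, map_C, MvPolynomial.map_map, show θ (algebraMap A₀ p₀.ResidueField (cΛ i)) = r (φ (cΛ i)) from
          RingHom.congr_fun hsq _, hsq, ← MvPolynomial.map_map] at this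
        rw [this]
        exact Ideal.mem_map_of_mem _ (hall i)
      exact (Ideal.unit_mul_mem_iff_mem I (hne.isUnit.map C)).1 h1
    have hmem : s' ∈ I := by rw [hsum]; exact sum_mem fun i _ => I.mul_mem_right _ (hu i)
    have key : ∀ t ∈ I, ∃ c : A, c ∉ p ∧ ∃ z ∈ q, C (r c) * t = MvPolynomial.map r z := by
      intro t ht
      induction ht using Submodule.span_induction with
      | mem t ht =>
        obtain ⟨z, hz, rfl⟩ := ht
        exact ⟨1, fun h => (Ideal.IsPrime.ne_top inferInstance) ((Ideal.eq_top_iff_one _).2 h), z, hz, by simp⟩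
      | zero => exact ⟨1, fun h => (Ideal.IsPrime.ne_top inferInstance) ((Ideal.eq_top_iff_one _).2 h), 0, q.zero_mem, by simp⟩
      | add a b _ _ ha hb =>
        obtain ⟨c₁, hc₁, z₁, hz₁, e₁⟩ := ha
        obtain ⟨c₂, hc₂, z₂, hz₂, e₂⟩ := hb
        refine ⟨c₁ * c₂, fun h => (Ideal.IsPrime.mem_or_mem inferInstance h).elim hc₁ hc₂, C c₂ * z₁ + C c₁ * z₂,
          q.add_mem (q.mul_mem_left _ hz₁) (q.mul_mem_left _ hz₂), ?_⟩
        simp only [map_add, map_mul, map_C, ← e₁, ← e₂]
        ring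
      | smul e a _ ha =>
        obtain ⟨c₁, hc₁, z₁, hz₁, e₁⟩ := ha
        obtain ⟨c₂, hc₂, z, hz⟩ := exists_red p e
        refine ⟨c₁ * c₂, fun h => (Ideal.IsPrime.mem_or_mem inferInstance h).elim hc₁ hc₂, z * z₁,
          q.mul_mem_left _ hz₁, ?_⟩
        rw [map_mul (MvPolynomial.map r) z z₁, ← e₁, show MvPolynomial.map r z = _ from hz.symm, smul_eq_mul, map_mul, map_mul]
        ring
    obtain ⟨cc, hcc, z, hz, ecz⟩ := key s' hmem
    have h2 : C cc * s - z ∈ q := by
      have h3 : MvPolynomial.map r (C cc * s - z) = 0 := by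
        rw [map_sub, map_mul, map_C, ← ecz, sub_self]
      exact (show p.map (C : A →+* MvPolynomial σ A) ≤ q from Ideal.map_le_iff_le_comap.2 hp.ge)
        ((map_eq_zero_iff_mem p _).1 h3)
    have h4 : C cc * s ∈ q := by simpa using q.add_mem h2 hz
    exact ((Ideal.IsPrime.mem_or_mem inferInstance h4).elim (fun h5 => hcc (hp.le h5 : cc ∈ p)) hs)
  obtain ⟨c₁, hc₁, w₁, hw₁, e₁⟩ := hback _ (hx'' i)
  refine ⟨C c₁ * zΛ i, fun h => ?_, ?_⟩
  · rcases (Ideal.IsPrime.mem_or_mem inferInstance (I := q.comap (MvPolynomial.map φ)) h) with h | h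
    · rw [Ideal.mem_comap, map_C] at h
      exact hc₁ (hp.le h : φ c₁ ∈ p)
    · exact hi h
  · have hz' : MvPolynomial.map r₀ (zΛ i) = C (r₀ (cΛ i)) * Λ i s' := (hzΛ i).symm
    have hd : kL r₀ ((C c₁ * zΛ i) • x - (C (cΛ i) : MvPolynomial σ A₀) • w₁) = 0 := by
      have e₂ : MvPolynomial.map r₀ (C c₁ * zΛ i) = C (r₀ (cΛ i)) * (C (r₀ c₁) * Λ i s') := by
        rw [map_mul, map_C, hz', mul_left_comm]
      rw [map_sub, kL_C_smul, e₁, LinearMap.map_smulₛₗ, e₂, mul_smul, mul_smul, sub_self]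
    exact Submodule.mem_sup.2 ⟨_, W₀.smul_mem (C (cΛ i) : MvPolynomial σ A₀) hw₁, _, (kL_mem_zero_iff p₀ _).1 hd,
      add_sub_cancel _ _⟩

end Groth.Agent.InjFibre
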