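import Groth.Agent.InjFibre.Descent
import Groth.Agent.FlatSpread.Fp
import Groth.Agent.LocalCrit.Criterion
import Mathlib.RingTheory.Flat.Equalizer

/-!
Injectivity and flatness of the cokernel from injectivity on the fibre, for modules over polynomial rings.
-/

set_option autoImplicit false
set_option linter.style.haveILetI false
universe u

open MvPolynomial TensorProduct Groth.Agent.FlatSpread

namespace Groth.Agent.InjFibre

/-- membership modulo a prime in a quotient -/
theorem mem_map_smul_top_iff {σ ι : Type} [Finite ι] {R : Type u} [CommRing R] (p : Ideal R)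
    (W : Submodule (MvPolynomial σ R) (ι → MvPolynomial σ R)) (y : ι → MvPolynomial σ R) :
    W.mkQ y ∈ p.map (C : R →+* MvPolynomial σ R) • (⊤ : Submodule (MvPolynomial σ R) ((ι → MvPolynomial σ R) ⧸ W)) ↔
      y ∈ W ⊔ cf p := by
  rw [show (⊤ : Submodule (MvPolynomial σ R) ((ι → MvPolynomial σ R) ⧸ W)) = Submodule.map W.mkQ ⊤ by
      rw [Submodule.map_top, Submodule.range_mkQ],
    ← Submodule.map_smul'', ← cf_eq, ← Submodule.mem_comap, Submodule.comap_map_mkQ]

section Noeth

variable {σ ι κ : Type} [Finite σ] [Finite ι] [Finite κ] {R : Type u} [CommRing R]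

/-- the noetherian case -/
theorem noeth [IsNoetherianRing R] (q : Ideal (MvPolynomial σ R)) [q.IsPrime]
    (WM : Submodule (MvPolynomial σ R) (κ → MvPolynomial σ R)) (W : Submodule (MvPolynomial σ R) (ι → MvPolynomial σ R))
    (v : (κ → MvPolynomial σ R) →ₗ[MvPolynomial σ R] (ι → MvPolynomial σ R)) (hv : WM ≤ W.comap v)
    (hfl : Module.Flat R (LocalizedModule q.primeCompl ((ι → MvPolynomial σ R) ⧸ W)))
    (H : ∀ x, v x ∈ W ⊔ cf (q.comap (C : R →+* MvPolynomial σ R)) →
      ∃ s, s ∉ q ∧ s • x ∈ WM ⊔ cf (q.comap (C : R →+* MvPolynomial σ R))) :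
    Function.Injective (LocalizedModule.map q.primeCompl (WM.mapQ W v hv)) ∧
      Function.Exact (LocalizedModule.map q.primeCompl (WM.mapQ W v hv))
        (LocalizedModule.map q.primeCompl (Submodule.factor (le_sup_left : W ≤ W ⊔ LinearMap.range v))) ∧
      Function.Surjective
        (LocalizedModule.map q.primeCompl (Submodule.factor (le_sup_left : W ≤ W ⊔ LinearMap.range v))) ∧
      Module.Flat R (LocalizedModule q.primeCompl ((ι → MvPolynomial σ R) ⧸ (W ⊔ LinearMap.range v))) := by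
  classical
  haveI : IsNoetherianRing (MvPolynomial σ R) := inferInstance
  let P := MvPolynomial σ R
  let p := q.comap (C : R →+* P)
  haveI : p.IsPrime := Ideal.IsPrime.comap _
  let R' := Localization.AtPrime p
  let Q' := Localization.AtPrime q
  letI : Algebra R' Q' := (Localization.localRingHom p q (C : R →+* P) rfl).toAlgebra
  haveI : IsScalarTower R R' Q' := IsScalarTower.of_algebraMap_eq fun a => by
    rw [IsScalarTower.algebraMap_apply R P Q']
    exact (Localization.localRingHom_to_map _ _ _ rfl a).symm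
  haveI : IsLocalHom (algebraMap R' Q') := Localization.isLocalHom_localRingHom _ _ _ rfl
  let M := LocalizedModule q.primeCompl ((κ → P) ⧸ WM)
  let N := LocalizedModule q.primeCompl ((ι → P) ⧸ W)
  letI : Module R' M := Module.compHom M (algebraMap R' Q')
  haveI : IsScalarTower R' Q' M := IsScalarTower.of_algebraMap_smul fun _ _ => rfl
  letI : Module R' N := Module.compHom N (algebraMap R' Q')
  haveI : IsScalarTower R' Q' N := IsScalarTower.of_algebraMap_smul fun _ _ => rfl
  haveI : IsScalarTower R R' M := IsScalarTower.of_algebraMap_smul fun r m => by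
    rw [← algebraMap_smul Q' (algebraMap R R' r) m, ← IsScalarTower.algebraMap_apply,
      IsScalarTower.algebraMap_apply R P Q', algebraMap_smul, algebraMap_smul]
  haveI : IsScalarTower R R' N := IsScalarTower.of_algebraMap_smul fun r m => by
    rw [← algebraMap_smul Q' (algebraMap R R' r) m, ← IsScalarTower.algebraMap_apply,
      IsScalarTower.algebraMap_apply R P Q', algebraMap_smul, algebraMap_smul]
  haveI : Module.Finite Q' M :=
    Module.Finite.of_isLocalizedModule q.primeCompl (Rₚ := Q') (LocalizedModule.mkLinearMap q.primeCompl _)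
  haveI : Module.Flat R' N := (Module.flat_iff_of_isLocalization R' p.primeCompl N).2 hfl
  let ū := WM.mapQ W v hv
  let L : M →ₗ[Q'] N := LocalizedModule.map q.primeCompl ū
  have hm : ∀ (X : Type u) [AddCommGroup X] [Module R X] [Module R' X] [IsScalarTower R R' X] (x : X),
      x ∈ IsLocalRing.maximalIdeal R' • (⊤ : Submodule R' X) ↔ x ∈ p • (⊤ : Submodule R X) := by
    intro X _ _ _ _ x
    constructor
    · intro hx
      refine Submodule.smul_induction_on hx (fun a ha n _ => ?_) fun a b ha hb => add_mem ha hb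
      · obtain ⟨r, s, rfl⟩ := IsLocalization.exists_mk'_eq p.primeCompl a
        have hr : r ∈ p := (IsLocalization.AtPrime.mk'_mem_maximal_iff R' p r s).1 ha
        rw [IsLocalization.mk'_eq_mul_mk'_one r s, mul_smul, algebraMap_smul]
        exact Submodule.smul_mem_smul hr trivial
    · intro hx
      refine Submodule.smul_induction_on hx (fun a ha n _ => ?_) fun a b ha hb => add_mem ha hb
      · rw [← algebraMap_smul R' a n]
        exact Submodule.smul_mem_smul ((IsLocalization.AtPrime.to_map_mem_maximal_iff R' p a).2 ha) trivial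
  have hres : Function.Injective ((L.restrictScalars R').lTensor (IsLocalRing.ResidueField R')) := by
    refine (LocalCrit.quot_lTensor_injective_iff (IsLocalRing.maximalIdeal R') (L.restrictScalars R')).2 fun x hx => ?_
    rw [hm] at hx ⊢
    obtain ⟨x₀, s, rfl⟩ : ∃ x₀ s, x = LocalizedModule.mk x₀ s :=
      LocalizedModule.induction_on (β := fun x => ∃ x₀ s, x = LocalizedModule.mk x₀ s) (fun m s => ⟨m, s, rfl⟩) x
    obtain ⟨y, rfl⟩ := Submodule.mkQ_surjective WM x₀
    obtain ⟨s', hs', a, ha, hsa⟩ := exists_of_mem_smul_top q.primeCompl hx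
    rw [LinearMap.restrictScalars_apply, show L (LocalizedModule.mk (WM.mkQ y) s) = LocalizedModule.mk (W.mkQ (v y)) s from
      LocalizedModule.map_mk _ _ _ _ , LocalizedModule.smul'_mk, LocalizedModule.mk_eq] at hsa
    obtain ⟨c, hc⟩ := hsa
    have h1 : v (((c : P) * s') • y) ∈ W ⊔ cf p := by
      rw [← mem_map_smul_top_iff, map_smul, map_smul, mul_smul]
      simp only [one_smul, Submonoid.smul_def] at hc
      rw [hc]
      exact Submodule.smul_mem _ _ (Submodule.smul_mem _ _ ha)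
    obtain ⟨t, ht, h2⟩ := H _ h1
    rw [← mem_map_smul_top_iff, smul_smul, map_smul] at h2
    have h3 := mk_mem_smul_top q.primeCompl h2 ((⟨t, ht⟩ * (c * ⟨s', hs'⟩)) * s)
    have e : LocalizedModule.mk ((t * ((c : P) * s')) • WM.mkQ y) ((⟨t, ht⟩ * (c * ⟨s', hs'⟩)) * s) =
        LocalizedModule.mk (WM.mkQ y) s := by
      rw [show t * ((c : P) * s') = ((⟨t, ht⟩ * (c * ⟨s', hs'⟩) : q.primeCompl) : P) from rfl, ← Submonoid.smul_def,
        LocalizedModule.mk_cancel_common_left]
    rwa [e] at h3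
  obtain ⟨hinj, hcok⟩ := LocalCrit.injective_and_flat_of_residue_injective (S := Q') (L.restrictScalars R') hres
  let π := Submodule.factor (le_sup_left : W ≤ W ⊔ LinearMap.range v)
  have hex : Function.Exact ū π := by
    intro z
    obtain ⟨z, rfl⟩ := Submodule.mkQ_surjective W z
    constructor
    · intro hz
      obtain ⟨a, ha, b, ⟨y, rfl⟩, e⟩ := Submodule.mem_sup.1 ((Submodule.Quotient.mk_eq_zero _).1 hz)
      refine ⟨WM.mkQ y, ?_⟩
      change W.mkQ (v y) = W.mkQ z
      rw [show z = a + v y from e.symm, map_add, show W.mkQ a = 0 from (Submodule.Quotient.mk_eq_zero _).2 ha, zero_add]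
    · rintro ⟨y, hy⟩
      obtain ⟨y, rfl⟩ := Submodule.mkQ_surjective WM y
      rw [← hy]
      exact (Submodule.Quotient.mk_eq_zero _).2 (Submodule.mem_sup_right ⟨y, rfl⟩)
  have hex' := LocalizedModule.map_exact q.primeCompl ū π hex
  have hsurj := LocalizedModule.map_surjective q.primeCompl π (Submodule.factor_surjective _)
  refine ⟨hinj, hex', hsurj, ?_⟩
  haveI := hcok
  haveI : Module.Flat R R' := IsLocalization.flat R' p.primeCompl
  haveI : Module.Flat R (N ⧸ LinearMap.range (L.restrictScalars R')) := Module.Flat.trans R R' _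
  refine Module.Flat.of_linearEquiv ?_ (M := N ⧸ LinearMap.range (L.restrictScalars R'))
  exact ((Submodule.Quotient.restrictScalarsEquiv R (LinearMap.range (L.restrictScalars R'))).symm ≪≫ₗ
    Submodule.quotEquivOfEq _ _ (by ext z; exact (hex' z).symm) ≪≫ₗ
    LinearMap.quotKerEquivOfSurjective ((LocalizedModule.map q.primeCompl π).restrictScalars R) hsurj).symm

end Noeth

/-- comparison map for base change -/
theorem exists_theta {σ ι : Type} [Finite ι] {R₀ R : Type u} [CommRing R₀] [CommRing R] [Algebra R₀ R]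
    (G : Submonoid (MvPolynomial σ R₀)) (W₀ : Submodule (MvPolynomial σ R₀) (ι → MvPolynomial σ R₀)) :
    ∃ Θ : (ι → MvPolynomial σ R) →ₗ[R] R ⊗[R₀] LocalizedModule G ((ι → MvPolynomial σ R₀) ⧸ W₀),
      (∀ y, Θ (kL (algebraMap R₀ R) y) = 1 ⊗ₜ LocalizedModule.mk (W₀.mkQ y) 1) ∧
        ∀ y ∈ ext (algebraMap R₀ R) W₀, Θ y = 0 := by
  let Θ : (ι → MvPolynomial σ R) →ₗ[R] R ⊗[R₀] LocalizedModule G ((ι → MvPolynomial σ R₀) ⧸ W₀) :=
    (vb σ ι R).constr R fun i => 1 ⊗ₜ LocalizedModule.mk (W₀.mkQ (vb σ ι R₀ i)) 1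
  have hΘ : ∀ y, Θ (kL (algebraMap R₀ R) y) = 1 ⊗ₜ LocalizedModule.mk (W₀.mkQ y) 1 := by
    intro y
    refine vec_induction (P := fun y => Θ (kL (algebraMap R₀ R) y) = 1 ⊗ₜ LocalizedModule.mk (W₀.mkQ y) 1) y
      (by simp) (fun a b ha hb => ?_) fun i => ?_
    · rw [map_add, map_add, ha, hb, map_add, ← tmul_add, LocalizedModule.mk_add_mk, one_smul, one_smul, one_mul]
    · rw [← C_smul, kL_C_smul, C_smul, map_smul, kL_vb, Module.Basis.constr_basis, C_smul, algebraMap_smul,
        LinearMap.map_smul_of_tower, ← tmul_smul, LocalizedModule.smul'_mk]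
  refine ⟨Θ, hΘ, fun y hy => ?_⟩
  have hy' := ext_le_span _ hy
  clear hy
  induction hy' using Submodule.span_induction with
  | mem y hy =>
    obtain ⟨w, hw, rfl⟩ := hy
    rw [hΘ, show W₀.mkQ w = 0 from (Submodule.Quotient.mk_eq_zero _).2 hw, LocalizedModule.zero_mk, tmul_zero]
  | zero => exact map_zero _
  | add a b _ _ iha ihb => rw [map_add, iha, ihb, add_zero]
  | smul c a _ iha => rw [map_smul, iha, smul_zero]

/-- **Injectivity on the fibre gives injectivity and flat cokernel**, over a polynomial ring. -/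
theorem poly {k m n : ℕ} {R : Type u} [CommRing R] (q : Ideal (MvPolynomial (Fin k) R)) [q.IsPrime]
    (WM : Submodule (MvPolynomial (Fin k) R) (Fin m → MvPolynomial (Fin k) R)) (hWM : WM.FG)
    (W : Submodule (MvPolynomial (Fin k) R) (Fin n → MvPolynomial (Fin k) R)) (hW : W.FG)
    (v : (Fin m → MvPolynomial (Fin k) R) →ₗ[MvPolynomial (Fin k) R] (Fin n → MvPolynomial (Fin k) R))
    (hv : WM ≤ W.comap v) (hfl : Fl (⊥ : Ideal R) q.primeCompl W)
    (H : ∀ x, v x ∈ W ⊔ cf (q.comap (C : R →+* MvPolynomial (Fin k) R)) →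
      ∃ s, s ∉ q ∧ s • x ∈ WM ⊔ cf (q.comap (C : R →+* MvPolynomial (Fin k) R))) :
    (∀ x, v x ∈ W → ∃ s, s ∉ q ∧ s • x ∈ WM) ∧
      Fl (⊥ : Ideal R) q.primeCompl (W ⊔ LinearMap.range v) := by
  classical
  obtain ⟨TM, hTM⟩ := hWM
  obtain ⟨Tg, hTg⟩ := hW
  let cols : Fin m → Fin n → MvPolynomial (Fin k) R := fun i => v (Pi.single i 1)
  let T := Tg ∪ TM.image v
  let E : Finset (MvPolynomial (Fin k) R) :=
    (Finset.univ.image fun p : Fin m × Fin n => cols p.1 p.2) ∪ TM.biUnion fun w => Finset.univ.image w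
  have hT : Submodule.span (MvPolynomial (Fin k) R) (T : Set (Fin n → MvPolynomial (Fin k) R)) = W := by
    refine le_antisymm (Submodule.span_le.2 fun x hx => ?_) (hTg ▸ Submodule.span_mono (by simp [T]))
    rcases Finset.mem_union.1 hx with hx | hx
    · exact hTg ▸ Submodule.subset_span hx
    · obtain ⟨w, hw, rfl⟩ := Finset.mem_image.1 hx
      exact hv (hTM ▸ Submodule.subset_span hw)
  obtain ⟨R₀, _, φ, hft, hφ, W₀, g₀, hW₀, hg₀, hfl₀, hTl, hEl⟩ := exists_model_fl' T hT E hfl
  haveI : IsNoetherianRing R₀ := Algebra.FiniteType.isNoetherianRing ℤ R₀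
  letI : Algebra R₀ R := φ.toAlgebra
  let P := MvPolynomial (Fin k) R
  let P₀ := MvPolynomial (Fin k) R₀
  have hkLinj : ∀ {r : ℕ}, Function.Injective (kL φ : (Fin r → P₀) → Fin r → P) := fun {r} a b h =>
    funext fun i => MvPolynomial.map_injective φ hφ (congrFun h i)
  choose e₀ he₀ using hEl
  let cols₀ : Fin m → Fin n → P₀ := fun i j => e₀ (cols i j)
    (Finset.mem_union_left _ (Finset.mem_image_of_mem (fun p : Fin m × Fin n => cols p.1 p.2) (Finset.mem_univ (i, j))))
  let v₀ : (Fin m → P₀) →ₗ[P₀] (Fin n → P₀) := Fintype.linearCombination P₀ cols₀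
  have hv₀ : ∀ x, v (kL φ x) = kL φ (v₀ x) := by
    intro x
    conv_lhs => rw [pi_eq_sum_univ' (kL φ x)]
    rw [Fintype.linearCombination_apply, map_sum, map_sum]
    refine Finset.sum_congr rfl fun i _ => ?_
    rw [map_smul, LinearMap.map_smulₛₗ, show kL φ (cols₀ i) = cols i from funext fun j => he₀ _ _]
    rfl
  let lw : TM → Fin m → P₀ := fun w j => e₀ (w.1 j)
    (Finset.mem_union_right _ (Finset.mem_biUnion.2 ⟨w.1, w.2, Finset.mem_image_of_mem _ (Finset.mem_univ j)⟩))
  have hlw : ∀ w, kL φ (lw w) = w.1 := fun w => funext fun j => he₀ _ _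
  let WM₀ := Submodule.span P₀ (Set.range lw)
  have hv₀W : WM₀ ≤ W₀.comap v₀ := by
    rw [Submodule.span_le]
    rintro _ ⟨w, rfl⟩
    obtain ⟨x₀, hx₀, hx₀e⟩ := hTl (v w.1) (Finset.mem_union_right _ (Finset.mem_image_of_mem _ w.2))
    have e : x₀ = v₀ (lw w) := hkLinj (show kL φ x₀ = kL φ (v₀ (lw w)) by rw [hx₀e, ← hv₀, hlw])
    show v₀ (lw w) ∈ W₀
    exact e ▸ hx₀
  have hWM₀ : ext φ WM₀ = WM := by
    refine le_antisymm (Submodule.span_le.2 ?_) ?_
    · rintro _ ⟨x, hx, rfl⟩
      induction hx using Submodule.span_induction with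
      | mem x hx =>
        obtain ⟨w, rfl⟩ := hx
        rw [hlw]
        exact hTM ▸ Submodule.subset_span w.2
      | zero => simp
      | add a b _ _ ha hb => rw [map_add]; exact add_mem ha hb
      | smul p a _ ha => rw [LinearMap.map_smulₛₗ]; exact WM.smul_mem _ ha
    · rw [← hTM, Submodule.span_le]
      intro w hw
      have := kL_mem_ext φ (show lw ⟨w, hw⟩ ∈ WM₀ from Submodule.subset_span ⟨_, rfl⟩)
      rwa [hlw] at this
  let p := q.comap (C : R →+* P)
  haveI : p.IsPrime := Ideal.IsPrime.comap _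
  let q₀ := q.comap (MvPolynomial.map φ)
  let p₀ := q₀.comap (C : R₀ →+* P₀)
  have hp₀ : p₀ = p.comap φ := by
    simp only [p₀, q₀, p, Ideal.comap_comap]
    congr 1
    exact RingHom.ext fun a => map_C _ _
  have H₀ : ∀ x, v₀ x ∈ W₀ ⊔ cf p₀ → ∃ s, s ∉ q₀ ∧ s • x ∈ WM₀ ⊔ cf p₀ := by
    intro x hx
    obtain ⟨a, ha, b, hb, e⟩ := Submodule.mem_sup.1 hx
    have h1 : v (kL φ x) ∈ W ⊔ cf p := by
      rw [hv₀, ← e, map_add]
      exact Submodule.add_mem _ (Submodule.mem_sup_left (hW₀ ▸ kL_mem_ext φ ha))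
        (Submodule.mem_sup_right (cf_mono (hp₀ ▸ Ideal.map_comap_le) (kL_mem_cf φ hb)))
    obtain ⟨s, hs, h2⟩ := H _ h1
    rw [← hWM₀] at h2
    rw [hp₀]
    exact descent φ p q rfl WM₀ x s hs h2
  have hpow : Submonoid.powers g₀ ≤ q₀.primeCompl := Submonoid.powers_le.2 hg₀
  have hfl₀' : Fl (⊥ : Ideal R₀) q₀.primeCompl W₀ := hfl₀.mono_monoid fun s hs => ⟨s, hpow hs, dvd_rfl⟩
  obtain ⟨hinj, hex, hsur, hC⟩ := noeth q₀ WM₀ W₀ v₀ hv₀W (flat_of_fl _ _ hfl₀') H₀
  haveI := hC
  have hext : ext φ (W₀ ⊔ LinearMap.range v₀) = W ⊔ LinearMap.range v := by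
    refine le_antisymm (Submodule.span_le.2 ?_) (sup_le (hW₀ ▸ Submodule.span_mono (Set.image_mono (SetLike.coe_subset_coe.2 le_sup_left))) ?_)
    · rintro _ ⟨x, hx, rfl⟩
      obtain ⟨a, ha, b, ⟨y, rfl⟩, rfl⟩ := Submodule.mem_sup.1 hx
      rw [map_add, ← hv₀]
      exact Submodule.add_mem _ (Submodule.mem_sup_left (hW₀ ▸ kL_mem_ext φ ha)) (Submodule.mem_sup_right ⟨_, rfl⟩)
    · rintro _ ⟨y, rfl⟩
      rw [pi_eq_sum_univ' y, map_sum]
      refine Submodule.sum_mem _ fun i _ => ?_
      rw [map_smul]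
      refine Submodule.smul_mem _ _ ?_
      have : kL φ (Pi.single i 1 : Fin m → P₀) = (Pi.single i 1 : Fin m → P) := by
        funext j
        change MvPolynomial.map φ ((Pi.single i 1 : Fin m → P₀) j) = _
        rcases eq_or_ne j i with rfl | hji <;> simp [*]
      rw [← this, hv₀]
      exact kL_mem_ext φ (Submodule.mem_sup_right ⟨_, rfl⟩)
  refine ⟨fun x hx => ?_, ?_⟩
  swap
  · have := Fl.baseChange φ (fl_of_flat q₀.primeCompl (W₀ ⊔ LinearMap.range v₀)) (G' := q.primeCompl)
      fun s hs => hs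
    rwa [Ideal.map_bot, hext] at this
  -- injectivity
  let M' := LocalizedModule q.primeCompl ((Fin m → P) ⧸ WM)
  obtain ⟨Θm, hΘm, -⟩ := exists_theta (R := R) q₀.primeCompl WM₀
  obtain ⟨Θn, hΘn, hΘn0⟩ := exists_theta (R := R) q₀.primeCompl W₀
  replace hΘm : ∀ y, Θm (kL φ y) = 1 ⊗ₜ LocalizedModule.mk (WM₀.mkQ y) 1 := hΘm
  replace hΘn : ∀ y, Θn (kL φ y) = 1 ⊗ₜ LocalizedModule.mk (W₀.mkQ y) 1 := hΘn
  let L := (LocalizedModule.map q₀.primeCompl (WM₀.mapQ W₀ v₀ hv₀W)).restrictScalars R₀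
  have hcomp : (L.baseChange R).comp Θm = Θn.comp (v.restrictScalars R) := by
    refine (vb (Fin k) (Fin m) R).ext fun i => ?_
    rw [LinearMap.comp_apply, LinearMap.comp_apply, ← kL_vb φ i, LinearMap.restrictScalars_apply, hv₀,
      hΘm, hΘn, LinearMap.baseChange_tmul]
    exact congrArg _ (LocalizedModule.map_mk _ _ _ _)
  have h0 : Θm x = 0 := by
    have hinj' : Function.Injective (L.baseChange R) :=
      LinearMap.lTensor_injective_of_exact_of_flat
        ((LocalizedModule.map q₀.primeCompl (Submodule.factor (le_sup_left : W₀ ≤ W₀ ⊔ LinearMap.range v₀))).restrictScalars R₀)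
        hsur L hinj hex R
    refine hinj' ?_
    rw [map_zero, ← LinearMap.comp_apply, hcomp]
    exact hΘn0 _ (hW₀.symm ▸ hx)
  letI : Module P₀ M' := Module.compHom M' (MvPolynomial.map φ)
  haveI : IsScalarTower R₀ P₀ M' := IsScalarTower.of_algebraMap_smul fun r z => by
    change (MvPolynomial.map φ (C r) : P) • z = r • z
    rw [map_C, ← MvPolynomial.algebraMap_eq, algebraMap_smul]
    exact algebraMap_smul R r z
  let f₁ : (Fin m → P₀) →ₗ[P₀] M' :=
    { toFun := fun y => LocalizedModule.mk (WM.mkQ (kL φ y)) 1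
      map_add' := fun a b => by rw [map_add, map_add, LocalizedModule.mk_add_mk, one_smul, one_smul, one_mul]
      map_smul' := fun c y => by rw [LinearMap.map_smulₛₗ, map_smul, ← LocalizedModule.smul'_mk]; rfl }
  let f₂ : ((Fin m → P₀) ⧸ WM₀) →ₗ[P₀] M' := WM₀.liftQ f₁ fun y hy => by
    change LocalizedModule.mk (WM.mkQ (kL φ y)) 1 = 0
    rw [show WM.mkQ (kL φ y) = 0 from (Submodule.Quotient.mk_eq_zero _).2 (hWM₀ ▸ kL_mem_ext φ hy), LocalizedModule.zero_mk]
  let f₃ := IsLocalizedModule.lift q₀.primeCompl (LocalizedModule.mkLinearMap q₀.primeCompl _) f₂ fun s => by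
    have hu := IsLocalizedModule.map_units (LocalizedModule.mkLinearMap q.primeCompl ((Fin m → P) ⧸ WM))
      (⟨MvPolynomial.map φ s.1, s.2⟩ : q.primeCompl)
    rw [Module.End.isUnit_iff] at hu ⊢
    exact hu
  let Ψ : R ⊗[R₀] LocalizedModule q₀.primeCompl ((Fin m → P₀) ⧸ WM₀) →ₗ[R] M' :=
    LinearMap.liftBaseChange R (f₃.restrictScalars R₀)
  have hΨ : ∀ y, Ψ (Θm y) = LocalizedModule.mk (WM.mkQ y) 1 := by
    have : Ψ.comp Θm = ((LocalizedModule.mkLinearMap q.primeCompl _).comp WM.mkQ).restrictScalars R := by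
      refine (vb (Fin k) (Fin m) R).ext fun i => ?_
      rw [LinearMap.comp_apply, ← kL_vb φ i, hΘm,
        LinearMap.liftBaseChange_tmul, one_smul, LinearMap.restrictScalars_apply]
      exact IsLocalizedModule.lift_apply _ _ _ _ _
    exact fun y => LinearMap.congr_fun this y
  have h5 := hΨ x
  rw [h0, map_zero, ← LocalizedModule.zero_mk (1 : q.primeCompl), LocalizedModule.mk_eq] at h5
  obtain ⟨c, hc⟩ := h5
  simp only [one_smul, smul_zero, Submonoid.smul_def, ← map_smul] at hc
  exact ⟨c, c.2, (Submodule.Quotient.mk_eq_zero _).1 hc.symm⟩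

end Groth.Agent.InjFibre
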